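import Groth.Agent.LieWt.K187.SL2P
import Groth.Agent.Sga3B.AffPts
import Groth.Agent.Red.K212.R1Mk

/-!
# The rank one system of `SL₂` in matrices
-/

set_option autoImplicit false
universe u

open CategoryTheory MonoidalCategory CartesianMonoidalCategory MonObj GrpObj AlgebraicGeometry Limits
open WithConv CoordGrp Groth.Agent.Books.AffBridge K187.SL2P
open Groth.Agent.Sga3B.DSPts Groth.Agent.Sga3B.GaPts Groth.Agent.Sga3.H811.Pts K212.R1Alg K212.R1Mk
open Groth.Agent.Sga3B.AffPts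

namespace K187.SL2Cell

section unit

variable {S : Scheme.{u}}

lemma isUnit_of_basicOpen_eq_top {X : Scheme.{u}} (f : Γ(X, ⊤)) (h : X.basicOpen f = ⊤) : IsUnit f := by
  apply RingedSpace.isUnit_of_isUnit_germ
  intro s hs
  have h5 : s ∈ X.basicOpen f := by rw [h]; trivial
  exact (Scheme.mem_basicOpen _ _ _ hs).mp h5

/-- monomorphisms whose factorisations are governed by the invertibility of a function are open immersions -/
theorem isOpenImmersion_of_unit {W X : Over S} (c : W ⟶ X) [Mono c] (f : Γ(X.left, ⊤))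
    (h : ∀ (T : Over S) (g : T ⟶ X), (∃ w : T ⟶ W, w ≫ c = g) ↔ IsUnit (g.left.appTop f)) :
    IsOpenImmersion c.left := by
  let U : X.left.Opens := X.left.basicOpen f
  let U' : Over S := Over.mk (U.ι ≫ X.hom)
  let ι' : U' ⟶ X := Over.homMk U.ι rfl
  have hι' : Mono ι'.left := inferInstanceAs (Mono U.ι)
  have hι : Mono ι' := Over.mono_of_mono_left ι'
  obtain ⟨w, hw⟩ := (h U' ι').2 (by
    apply isUnit_of_basicOpen_eq_top
    rw [← Scheme.preimage_basicOpen_top]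
    exact Scheme.Opens.ι_preimage_self _)
  have hu := (h W c).1 ⟨𝟙 _, Category.id_comp _⟩
  have hr : Set.range c.left ⊆ Set.range U.ι := by
    rw [Scheme.Opens.range_ι]
    rintro _ ⟨x, rfl⟩
    have h1 : c.left ⁻¹ᵁ U = ⊤ := by
      rw [Scheme.preimage_basicOpen_top]
      exact Scheme.basicOpen_of_isUnit _ hu
    have h2 : x ∈ c.left ⁻¹ᵁ U := by rw [h1]; trivial
    exact h2
  let v : W ⟶ U' := Over.homMk (IsOpenImmersion.lift U.ι c.left hr) (by
    change _ ≫ U.ι ≫ X.hom = _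
    rw [← Category.assoc, IsOpenImmersion.lift_fac, Over.w])
  have hv : v ≫ ι' = c := by
    ext1
    exact IsOpenImmersion.lift_fac _ _ _
  have e1 : v ≫ w = 𝟙 _ := by
    rw [← cancel_mono c, Category.assoc, hw, hv, Category.id_comp]
  have e2 : w ≫ v = 𝟙 _ := by
    rw [← cancel_mono ι', Category.assoc, hv, hw, Category.id_comp]
  have hiso : IsIso v := ⟨w, e1, e2⟩
  have : c.left = v.left ≫ U.ι := by
    rw [← hv]
    rfl
  rw [this]
  have : IsIso v.left := inferInstanceAs (IsIso ((Over.forget _).map v))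
  infer_instance

end unit

section mat

variable {B : Type u} [CommRing B]

/-- the diagonal matrix -/
def dg (z : Bˣ) : Matrix.SpecialLinearGroup (Fin 2) B :=
  ⟨!![(z : B), 0; 0, ((z⁻¹ : Bˣ) : B)], by simp [Matrix.det_fin_two]⟩

lemma sl_ext {M N : Matrix.SpecialLinearGroup (Fin 2) B}
    (h00 : (M : Matrix (Fin 2) (Fin 2) B) 0 0 = (N : Matrix (Fin 2) (Fin 2) B) 0 0)
    (h01 : (M : Matrix (Fin 2) (Fin 2) B) 0 1 = (N : Matrix (Fin 2) (Fin 2) B) 0 1)
    (h10 : (M : Matrix (Fin 2) (Fin 2) B) 1 0 = (N : Matrix (Fin 2) (Fin 2) B) 1 0)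
    (h11 : (M : Matrix (Fin 2) (Fin 2) B) 1 1 = (N : Matrix (Fin 2) (Fin 2) B) 1 1) : M = N := by
  apply Subtype.ext
  ext i j
  fin_cases i <;> fin_cases j <;> assumption

lemma mul00 (M N : Matrix.SpecialLinearGroup (Fin 2) B) :
    ((M * N : Matrix.SpecialLinearGroup (Fin 2) B) : Matrix (Fin 2) (Fin 2) B) 0 0 =
      (M : Matrix (Fin 2) (Fin 2) B) 0 0 * (N : Matrix (Fin 2) (Fin 2) B) 0 0 +
        (M : Matrix (Fin 2) (Fin 2) B) 0 1 * (N : Matrix (Fin 2) (Fin 2) B) 1 0 := by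
  rw [Matrix.SpecialLinearGroup.coe_mul, Matrix.mul_apply, Fin.sum_univ_two]

lemma mul01 (M N : Matrix.SpecialLinearGroup (Fin 2) B) :
    ((M * N : Matrix.SpecialLinearGroup (Fin 2) B) : Matrix (Fin 2) (Fin 2) B) 0 1 =
      (M : Matrix (Fin 2) (Fin 2) B) 0 0 * (N : Matrix (Fin 2) (Fin 2) B) 0 1 +
        (M : Matrix (Fin 2) (Fin 2) B) 0 1 * (N : Matrix (Fin 2) (Fin 2) B) 1 1 := by
  rw [Matrix.SpecialLinearGroup.coe_mul, Matrix.mul_apply, Fin.sum_univ_two]

lemma mul10 (M N : Matrix.SpecialLinearGroup (Fin 2) B) :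
    ((M * N : Matrix.SpecialLinearGroup (Fin 2) B) : Matrix (Fin 2) (Fin 2) B) 1 0 =
      (M : Matrix (Fin 2) (Fin 2) B) 1 0 * (N : Matrix (Fin 2) (Fin 2) B) 0 0 +
        (M : Matrix (Fin 2) (Fin 2) B) 1 1 * (N : Matrix (Fin 2) (Fin 2) B) 1 0 := by
  rw [Matrix.SpecialLinearGroup.coe_mul, Matrix.mul_apply, Fin.sum_univ_two]

lemma mul11 (M N : Matrix.SpecialLinearGroup (Fin 2) B) :
    ((M * N : Matrix.SpecialLinearGroup (Fin 2) B) : Matrix (Fin 2) (Fin 2) B) 1 1 =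
      (M : Matrix (Fin 2) (Fin 2) B) 1 0 * (N : Matrix (Fin 2) (Fin 2) B) 0 1 +
        (M : Matrix (Fin 2) (Fin 2) B) 1 1 * (N : Matrix (Fin 2) (Fin 2) B) 1 1 := by
  rw [Matrix.SpecialLinearGroup.coe_mul, Matrix.mul_apply, Fin.sum_univ_two]

section entries
variable (z : Bˣ) (s : B)
@[simp] lemma dg00 : (dg z : Matrix (Fin 2) (Fin 2) B) 0 0 = z := rfl
@[simp] lemma dg01 : (dg z : Matrix (Fin 2) (Fin 2) B) 0 1 = 0 := rfl
@[simp] lemma dg10 : (dg z : Matrix (Fin 2) (Fin 2) B) 1 0 = 0 := rfl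
@[simp] lemma dg11 : (dg z : Matrix (Fin 2) (Fin 2) B) 1 1 = ((z⁻¹ : Bˣ) : B) := rfl
@[simp] lemma up00 : (up s : Matrix (Fin 2) (Fin 2) B) 0 0 = 1 := rfl
@[simp] lemma up01 : (up s : Matrix (Fin 2) (Fin 2) B) 0 1 = s := rfl
@[simp] lemma up10 : (up s : Matrix (Fin 2) (Fin 2) B) 1 0 = 0 := rfl
@[simp] lemma up11 : (up s : Matrix (Fin 2) (Fin 2) B) 1 1 = 1 := rfl
@[simp] lemma lo00 : (lo s : Matrix (Fin 2) (Fin 2) B) 0 0 = 1 := rfl
@[simp] lemma lo01 : (lo s : Matrix (Fin 2) (Fin 2) B) 0 1 = 0 := rfl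
@[simp] lemma lo10 : (lo s : Matrix (Fin 2) (Fin 2) B) 1 0 = s := rfl
@[simp] lemma lo11 : (lo s : Matrix (Fin 2) (Fin 2) B) 1 1 = 1 := rfl
end entries

lemma up_add (s t : B) : up (s + t) = up s * up t := by
  apply sl_ext <;> simp [mul00, mul01, mul10, mul11, add_comm]

lemma lo_add (s t : B) : lo (s + t) = lo s * lo t := by
  apply sl_ext <;> simp [mul00, mul01, mul10, mul11]

lemma dg_mul (z w : Bˣ) : dg (z * w) = dg z * dg w := by
  apply sl_ext <;> simp [mul00, mul01, mul10, mul11, mul_comm]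

lemma dg_up (z : Bˣ) (s : B) : dg z * up s = up (z ^ 2 * s) * dg z := by
  apply sl_ext
  · simp [mul00]
  · simp only [mul01, dg00, up01, dg01, up11, up00, dg11]
    have := Units.mul_inv z
    linear_combination (-(z : B) * s) * this
  · simp [mul10]
  · simp [mul11]

lemma dg_lo (z : Bˣ) (s : B) : dg z * lo s = lo (((z⁻¹ : Bˣ) : B) ^ 2 * s) * dg z := by
  apply sl_ext
  · simp [mul00]
  · simp [mul01]
  · simp only [mul10, dg10, lo00, dg11, lo10, dg00, lo11]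
    have := Units.inv_mul z
    linear_combination (-(((z⁻¹ : Bˣ) : B)) * s) * this
  · simp [mul11]

/-- the rank one commutation rule -/
lemma up_lo (x y : B) (z : Bˣ) (hz : (z : B) = 1 + x * y) :
    up x * lo y = lo (((z⁻¹ : Bˣ) : B) * y) * dg z * up (((z⁻¹ : Bˣ) : B) * x) := by
  have hi := Units.mul_inv z
  apply sl_ext
  · simp only [mul00, up00, lo00, up01, lo10, dg00, lo01, dg10, mul01, up10, dg01, dg11]
    linear_combination -hz
  · simp only [mul00, mul01, up00, up01, lo00, lo01, lo11, dg01, dg00, dg10, dg11, up11]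
    linear_combination (-x) * hi
  · simp only [mul10, mul11, up10, up11, lo10, lo00, dg00, up00, lo11, dg10, dg01, dg11]
    linear_combination (-y) * hi
  · simp only [mul10, mul11, up10, up11, lo10, lo11, dg00, up01, dg10, lo01, dg01, dg11]
    linear_combination (-(x * y) * ((z⁻¹ : Bˣ) : B) - 1) * hi + ((z⁻¹ : Bˣ) : B) * hz

/-- the big cell -/
lemma eq_cell (M : Matrix.SpecialLinearGroup (Fin 2) B) (z : Bˣ) (hz : (z : B) = (M : Matrix (Fin 2) (Fin 2) B) 0 0) :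
    M = lo (((z⁻¹ : Bˣ) : B) * (M : Matrix (Fin 2) (Fin 2) B) 1 0) * dg z *
      up (((z⁻¹ : Bˣ) : B) * (M : Matrix (Fin 2) (Fin 2) B) 0 1) := by
  have hi := Units.mul_inv z
  have hd := M.2
  rw [Matrix.det_fin_two] at hd
  apply sl_ext
  · simp only [mul00, up00, lo00, dg00, lo01, dg10, mul01, up10, dg01, dg11]
    linear_combination -hz
  · simp only [mul00, mul01, up01, lo00, lo01, dg01, dg00, dg10, dg11, up11]
    linear_combination (-(M : Matrix (Fin 2) (Fin 2) B) 0 1) * hi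
  · simp only [mul10, mul11, up10, lo10, dg00, up00, lo11, dg10, dg01, dg11]
    linear_combination (-(M : Matrix (Fin 2) (Fin 2) B) 1 0) * hi
  · simp only [mul10, mul11, lo10, dg00, up01, dg10, lo11, up11, dg01, dg11]
    linear_combination (-(M : Matrix (Fin 2) (Fin 2) B) 1 1) * hi + ((z⁻¹ : Bˣ) : B) * hd +
      (((z⁻¹ : Bˣ) : B) * (M : Matrix (Fin 2) (Fin 2) B) 1 1) * hz -
      (((z⁻¹ : Bˣ) : B) * (M : Matrix (Fin 2) (Fin 2) B) 1 0 * (M : Matrix (Fin 2) (Fin 2) B) 0 1) * hi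

lemma cell00 (a b : B) (z : Bˣ) : ((lo a * dg z * up b : Matrix.SpecialLinearGroup (Fin 2) B) :
    Matrix (Fin 2) (Fin 2) B) 0 0 = z := by
  simp [mul00, mul01]

lemma cell01 (a b : B) (z : Bˣ) : ((lo a * dg z * up b : Matrix.SpecialLinearGroup (Fin 2) B) :
    Matrix (Fin 2) (Fin 2) B) 0 1 = z * b := by
  simp [mul00, mul01]

lemma cell10 (a b : B) (z : Bˣ) : ((lo a * dg z * up b : Matrix.SpecialLinearGroup (Fin 2) B) :
    Matrix (Fin 2) (Fin 2) B) 1 0 = a * z := by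
  simp [mul10, mul11]

lemma cell_inj {a b a' b' : B} {z z' : Bˣ} (h : lo a * dg z * up b = lo a' * dg z' * up b') :
    a = a' ∧ z = z' ∧ b = b' := by
  have h0 := congrArg (fun N : Matrix.SpecialLinearGroup (Fin 2) B => (N : Matrix (Fin 2) (Fin 2) B) 0 0) h
  have h1 := congrArg (fun N : Matrix.SpecialLinearGroup (Fin 2) B => (N : Matrix (Fin 2) (Fin 2) B) 0 1) h
  have h2 := congrArg (fun N : Matrix.SpecialLinearGroup (Fin 2) B => (N : Matrix (Fin 2) (Fin 2) B) 1 0) h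
  simp only [cell00, cell01, cell10] at h0 h1 h2
  have hz : z = z' := Units.ext h0
  subst hz
  refine ⟨?_, rfl, ?_⟩
  · exact (Units.mul_left_inj z).1 h2
  · exact (Units.mul_right_inj z).1 h1

section map
variable {C : Type u} [CommRing C] (f : B →+* C)

lemma map_dg (z : Bˣ) : Matrix.SpecialLinearGroup.map f (dg z) = dg (Units.map (f : B →* C) z) := by
  apply sl_ext <;> simp [Matrix.SpecialLinearGroup.map_apply_coe, RingHom.mapMatrix_apply]

lemma map_up (s : B) : Matrix.SpecialLinearGroup.map f (up s) = up (f s) := by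
  apply sl_ext <;> simp [Matrix.SpecialLinearGroup.map_apply_coe, RingHom.mapMatrix_apply]

lemma map_lo (s : B) : Matrix.SpecialLinearGroup.map f (lo s) = lo (f s) := by
  apply sl_ext <;> simp [Matrix.SpecialLinearGroup.map_apply_coe, RingHom.mapMatrix_apply]

end map

end mat

section pts

variable {R : Type u} [CommRing R]

/-- the special linear group of degree two over `R` -/
noncomputable abbrev SL (R : Type u) [CommRing R] : Over (Spec (CommRingCat.of R)) := SpecOver R (SLn 2 R)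

/-- the point of `SL₂` with a given matrix of functions -/
noncomputable def mt (T : Over (Spec (CommRingCat.of R))) :
    Matrix.SpecialLinearGroup (Fin 2) Γ(T.left, ⊤) ≃* (T ⟶ SL R) :=
  (mulEquiv (n := 2) (k := R) (B := Fn T)).symm.trans (affEquiv T)

lemma comp_mt {T T' : Over (Spec (CommRingCat.of R))} (h : T' ⟶ T) (M : Matrix.SpecialLinearGroup (Fin 2) Γ(T.left, ⊤)) :
    h ≫ mt T M = mt T' (Matrix.SpecialLinearGroup.map h.left.appTop.hom M) := by
  change h ≫ affPt T (SLn.pt 2 R (B := Fn T) M.1 M.2) = affPt T' (SLn.pt 2 R (B := Fn T')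
    (Matrix.SpecialLinearGroup.map h.left.appTop.hom M).1 (Matrix.SpecialLinearGroup.map h.left.appTop.hom M).2)
  rw [comp_affPt]
  congr 1
  apply K702.SL.ext
  intro i j
  rw [SLn.pt_X, AlgHom.comp_apply, SLn.pt_X]
  rfl

variable (R) in
/-- the diagonal torus -/
noncomputable def i₀ : Red.Gm (Spec (CommRingCat.of R)) ⟶ SL R := mt _ (dg (uPt (𝟙 _)))

variable (R) in
/-- the upper root homomorphism -/
noncomputable def pp₀ : Red.Ga (Spec (CommRingCat.of R)) ⟶ SL R := mt _ (up (Red.gaFn (𝟙 _)))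

variable (R) in
/-- the lower root homomorphism -/
noncomputable def pm₀ : Red.Ga (Spec (CommRingCat.of R)) ⟶ SL R := mt _ (lo (Red.gaFn (𝟙 _)))

lemma comp_i₀ {X : Over (Spec (CommRingCat.of R))} (t : X ⟶ Red.Gm (Spec (CommRingCat.of R))) :
    t ≫ i₀ R = mt X (dg (uPt t)) := by
  rw [i₀, comp_mt, map_dg]
  congr 2
  apply Units.ext
  rw [Units.coe_map, uPt_val, uPt_val]
  have := gmFn_comp t (𝟙 (Red.Gm (Spec (CommRingCat.of R))))
  rw [Category.comp_id] at this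
  exact this.symm

lemma comp_pp₀ {X : Over (Spec (CommRingCat.of R))} (x : X ⟶ Red.Ga (Spec (CommRingCat.of R))) :
    x ≫ pp₀ R = mt X (up (Red.gaFn x)) := by
  rw [pp₀, comp_mt, map_up]
  have := gaFn_comp x (𝟙 (Red.Ga (Spec (CommRingCat.of R))))
  rw [Category.comp_id] at this
  rw [this]

lemma comp_pm₀ {X : Over (Spec (CommRingCat.of R))} (x : X ⟶ Red.Ga (Spec (CommRingCat.of R))) :
    x ≫ pm₀ R = mt X (lo (Red.gaFn x)) := by
  rw [pm₀, comp_mt, map_lo]
  have := gaFn_comp x (𝟙 (Red.Ga (Spec (CommRingCat.of R))))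
  rw [Category.comp_id] at this
  rw [this]

/-- **The rank one system of `SL₂`.** -/
theorem r1 : R1Hyp (i₀ R) ((𝟙 (Red.Gm (Spec (CommRingCat.of R)))) ^ 2) (pp₀ R) (pm₀ R)
    (𝟙 (Red.Gm (Spec (CommRingCat.of R)))) where
  mi := Groth.Agent.Sga3B.Pts.isMonHom_of_points _ fun X t t' => by
    rw [comp_i₀, comp_i₀, comp_i₀, ← map_mul, uPt_mul, dg_mul]
  ma := Groth.Agent.Sga3B.Pts.isMonHom_of_points _ fun X t t' => by
    apply gmFn_injective
    rw [MonObj.comp_pow, MonObj.comp_pow, MonObj.comp_pow, Category.comp_id, Category.comp_id, Category.comp_id,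
      gmFn_pow, gmFn_mul, gmFn_mul, gmFn_pow, gmFn_pow, mul_pow]
  mpp := Groth.Agent.Sga3B.Pts.isMonHom_of_points _ fun X x y => by
    rw [comp_pp₀, comp_pp₀, comp_pp₀, ← map_mul, gaFn_mul, up_add]
  mpm := Groth.Agent.Sga3B.Pts.isMonHom_of_points _ fun X x y => by
    rw [comp_pm₀, comp_pm₀, comp_pm₀, ← map_mul, gaFn_mul, lo_add]
  mav := inferInstance
  tcomm X t t' := by
    apply gmFn_injective
    rw [gmFn_mul, gmFn_mul, mul_comm]
  hpp X t x := by
    refine ⟨gaPt X (Red.gmFn (t ≫ (𝟙 (Red.Gm (Spec (CommRingCat.of R)))) ^ 2) * Red.gaFn x), ?_, gaFn_gaPt _ _⟩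
    rw [comp_pp₀, comp_pp₀, comp_i₀, gaFn_gaPt, ← map_mul, ← map_inv, ← map_mul, dg_up,
      mul_inv_cancel_right, MonObj.comp_pow, Category.comp_id, gmFn_pow, uPt_val]
  hpm X t y := by
    refine ⟨gaPt X ((((uPt t)⁻¹ : Γ(X.left, ⊤)ˣ) : Γ(X.left, ⊤)) ^ 2 * Red.gaFn y), ?_, ?_⟩
    · rw [comp_pm₀, comp_pm₀, comp_i₀, gaFn_gaPt, ← map_mul, ← map_inv, ← map_mul, dg_lo,
        mul_inv_cancel_right]
    · rw [gaFn_gaPt, MonObj.comp_pow, Category.comp_id, gmFn_pow, ← uPt_val]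
      have := Units.inv_mul (uPt t)
      linear_combination (Red.gaFn y) * ((((uPt t)⁻¹ : Γ(X.left, ⊤)ˣ) : Γ(X.left, ⊤)) * (uPt t) + 1) * this
  h2 := Category.id_comp _
  hF X x y hu := by
    obtain ⟨z, hz⟩ := hu
    have hi := Units.inv_mul z
    refine ⟨gaPt X (((z⁻¹ : Γ(X.left, ⊤)ˣ) : Γ(X.left, ⊤)) * Red.gaFn x),
      gaPt X (((z⁻¹ : Γ(X.left, ⊤)ˣ) : Γ(X.left, ⊤)) * Red.gaFn y), gmPt X z, ?_, ?_, ?_, ?_⟩
    · rw [gmFn_gmPt, hz]
    · rw [gmFn_gmPt, gaFn_gaPt]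
      linear_combination (Red.gaFn x) * hi
    · rw [gmFn_gmPt, gaFn_gaPt]
      linear_combination (Red.gaFn y) * hi
    · rw [Category.id_comp, comp_pp₀, comp_pm₀, comp_pp₀, comp_pm₀, comp_i₀, gaFn_gaPt, gaFn_gaPt, uPt_gmPt,
        ← map_mul, ← map_mul, ← map_mul, up_lo _ _ z hz]

variable (R) in
/-- the matrix of the universal point -/
noncomputable def univ : Matrix.SpecialLinearGroup (Fin 2) Γ((SL R).left, ⊤) := (mt (SL R)).symm (𝟙 _)

lemma eq_mt {X : Over (Spec (CommRingCat.of R))} (g : X ⟶ SL R) :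
    g = mt X (Matrix.SpecialLinearGroup.map g.left.appTop.hom (univ R)) := by
  rw [← comp_mt, univ, MulEquiv.apply_symm_apply, Category.comp_id]

lemma symm_entry {X : Over (Spec (CommRingCat.of R))} (g : X ⟶ SL R) (i j : Fin 2) :
    ((mt X).symm g : Matrix (Fin 2) (Fin 2) Γ(X.left, ⊤)) i j =
      g.left.appTop ((univ R : Matrix (Fin 2) (Fin 2) Γ((SL R).left, ⊤)) i j) := by
  conv_lhs => rw [eq_mt g]
  rw [MulEquiv.symm_apply_apply]
  rfl

lemma comp_cell_mt {X : Over (Spec (CommRingCat.of R))}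
    (w : X ⟶ (Red.Ga (Spec (CommRingCat.of R)) ⊗ Red.Gm (Spec (CommRingCat.of R))) ⊗ Red.Ga (Spec (CommRingCat.of R))) :
    w ≫ cell (i₀ R) (pp₀ R) (pm₀ R) = mt X (lo (Red.gaFn (w ≫ fst _ _ ≫ fst _ _)) *
      dg (uPt (w ≫ fst _ _ ≫ snd _ _)) * up (Red.gaFn (w ≫ snd _ _))) := by
  have hw : w = lift (lift (w ≫ fst _ _ ≫ fst _ _) (w ≫ fst _ _ ≫ snd _ _)) (w ≫ snd _ _) := by
    apply CartesianMonoidalCategory.hom_ext
    · rw [lift_fst]
      apply CartesianMonoidalCategory.hom_ext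
      · rw [lift_fst, Category.assoc]
      · rw [lift_snd, Category.assoc]
    · rw [lift_snd]
  conv_lhs => rw [hw]
  rw [lift_cell, comp_pm₀, comp_pp₀, comp_i₀, ← map_mul, ← map_mul]

/-- **The cell of `SL₂` is an open immersion.** -/
theorem cell_open : IsOpenImmersion (cell (i₀ R) (pp₀ R) (pm₀ R)).left := by
  have hmono : Mono (cell (i₀ R) (pp₀ R) (pm₀ R)) := by
    refine ⟨fun {X} w w' h => ?_⟩
    rw [comp_cell_mt, comp_cell_mt] at h
    obtain ⟨h1, h2, h3⟩ := cell_inj ((mt X).injective h)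
    apply CartesianMonoidalCategory.hom_ext
    · apply CartesianMonoidalCategory.hom_ext
      · rw [Category.assoc, Category.assoc]
        exact gaFn_injective _ h1
      · rw [Category.assoc, Category.assoc]
        apply gmFn_injective
        rw [← uPt_val, ← uPt_val, h2]
    · exact gaFn_injective _ h3
  refine isOpenImmersion_of_unit _ ((univ R : Matrix (Fin 2) (Fin 2) Γ((SL R).left, ⊤)) 0 0) fun X g => ?_
  rw [← symm_entry]
  constructor
  · rintro ⟨w, rfl⟩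
    rw [comp_cell_mt, MulEquiv.symm_apply_apply, cell00]
    exact Units.isUnit _
  · rintro ⟨z, hz⟩
    refine ⟨lift (lift (gaPt X (((z⁻¹ : Γ(X.left, ⊤)ˣ) : Γ(X.left, ⊤)) *
      ((mt X).symm g : Matrix (Fin 2) (Fin 2) Γ(X.left, ⊤)) 1 0)) (gmPt X z))
      (gaPt X (((z⁻¹ : Γ(X.left, ⊤)ˣ) : Γ(X.left, ⊤)) *
      ((mt X).symm g : Matrix (Fin 2) (Fin 2) Γ(X.left, ⊤)) 0 1)), ?_⟩
    rw [lift_cell, comp_pm₀, comp_pp₀, comp_i₀, ← map_mul, ← map_mul, gaFn_gaPt, gaFn_gaPt, uPt_gmPt,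
      ← eq_cell _ z hz, MulEquiv.apply_symm_apply]

end pts

end K187.SL2Cell
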