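import Groth.Agent.LieWt.K187.SL2Fin
import Groth.Agent.S6096

/-!
# The radical and the derived group of a reductive group of semisimple rank one over a field
-/

set_option autoImplicit false
universe u

open CategoryTheory MonoidalCategory CartesianMonoidalCategory MonObj GrpObj AlgebraicGeometry Limits
open WithConv CoordGrp Groth.Agent.Books.AffBridge K187.SL2P K187.SL2Cell K187.SL2Quot K187.SL2Hom
open Groth.Agent.Sga3B K187.SL2Der K187.SL2Surj K187.SL2Fin

namespace K187.SL2Cent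

variable {k : Type u} [Field k] {Z : Over (Spec (CommRingCat.of k))} [GrpObj Z] (hZ : Red.IsReductive Z)
variable (Ta : Over (Spec (CommRingCat.of k))) [GrpObj Ta] (hTa : Red.IsTorus Ta) (jZ : Ta ⟶ Z) [IsMonHom jZ] [Mono jZ]
variable (DD : Over (Spec (CommRingCat.of k))) [GrpObj DD] (d : DD ⟶ Z) [IsMonHom d]

/-- the central points of a homomorphism -/
def Cent {R : Over (Spec (CommRingCat.of k))} (r : R ⟶ Z) : Prop :=
  ∀ (X : Over (Spec (CommRingCat.of k))) (x : X ⟶ R) (X' : Over (Spec (CommRingCat.of k))) (y : X' ⟶ X) (h : X' ⟶ Z),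
        (y ≫ x ≫ r) * h = h * (y ≫ x ≫ r)

include hZ in
/-- **The product of the radical and the derived group is everything.** -/
theorem surjective_mul
    (hmax : ∀ (R' : Over (Spec (CommRingCat.of k))) [GrpObj R'] (r' : R' ⟶ Z) [IsMonHom r'] [Mono r'],
      Red.IsTorus R' → Cent r' → ∃ f : R' ⟶ Ta, f ≫ jZ = r') (hker : HKer d) :
    Surjective ((fst Ta DD ≫ jZ) * (snd Ta DD ≫ d)).left := by
  obtain ⟨C, _, f₀, hf₀, hC, hd⟩ := hker
  obtain ⟨Zc, R₁, _, _, j, r₁, hj, hjcl, hr₁⟩ := K545.Centre.exists_radical hZ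
  have m1 : IsMonHom r₁ := hr₁.1
  have m2 : Mono r₁ := hr₁.2.1
  have m3 : IsMonHom j := hj.1
  have m4 : Mono j := hj.2.1
  obtain ⟨ρ, hρ⟩ := hmax R₁ (r₁ ≫ j) hr₁.2.2.1 (by
    intro X x X' y h
    have h7 := (hj.2.2 X (x ≫ r₁ ≫ j)).1 ⟨x ≫ r₁, Category.assoc _ _ _⟩ X' y h
    rwa [Category.comp_id] at h7)
  have h7 := K198.RadSurj.surjective hZ d f₀ hC hd j hj r₁ hr₁
  have h8 : ((r₁ ≫ j) ⊗ₘ d) ≫ μ[Z] = (ρ ⊗ₘ 𝟙 DD) ≫ ((fst Ta DD ≫ jZ) * (snd Ta DD ≫ d)) := by
    have h9 : ((r₁ ≫ j) ⊗ₘ d) ≫ μ[Z] = (fst R₁ DD ≫ r₁ ≫ j) * (snd R₁ DD ≫ d) := by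
      rw [Hom.mul_def]
      congr 1
    rw [h9, MonObj.comp_mul, ← hρ]
    congr 1
    · simp
    · simp
  have h10 : Surjective ((ρ ⊗ₘ 𝟙 DD).left ≫ ((fst Ta DD ≫ jZ) * (snd Ta DD ≫ d)).left) := by
    rw [← Over.comp_left, ← h8]
    exact h7
  exact Surjective.of_comp (ρ ⊗ₘ 𝟙 DD).left _

include hZ hTa in
/-- **The radical meets the derived group in a finite group.** -/
theorem finite_inter (hcent : Cent jZ) (hker : HKer d) (hkill : RedSub.KilledByCommutative d)
    (I : Over (Spec (CommRingCat.of k))) (p₁ : I ⟶ Ta) (p₂ : I ⟶ DD) (hI : IsPullback p₁ p₂ jZ d) :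
    Finite ↥I.left := by
  obtain ⟨C, _, f₀, D₀, _, d₀, hf₀, hCt, hsm₀, hsurj₀, hd₀, hd₀cl, hd₀ker, hss, hkill₀, -, -⟩ :=
    Groth.Agent.S3972.result Z hZ
  have hC := Groth.Agent.Sga3B.MaxTorNear900.mul_comm_of_isTorus hCt
  have hdk : AlgGrp.IsKernel d f₀ := isKernel_of d hker hkill hC f₀ (by
    intro K _ κ _ hκ A _ g _ hA
    have h1 : κ ≫ f₀ = toUnit _ ≫ η[C] := by
      rw [hκ.w]
    have h2 : hd₀ker.lift κ (toUnit _) h1 ≫ d₀ = κ := hd₀ker.lift_fst _ _ _
    rw [← h2, Category.assoc, hkill₀ A g hA, MonObj.comp_one])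
  have hmono : Mono d := by
    refine ⟨fun {X} x y h => ?_⟩
    apply hdk.hom_ext h
    exact toUnit_unique _ _
  have hquot : RedSub.IsQuotient d f₀ := by
    refine ⟨hsurj₀, inferInstance, inferInstance, Groth.Agent.RedSub.H650.QuotPts.isPullback_of_ptQuot ?_⟩
    intro T a b
    constructor
    · intro hab
      have h9 : (a⁻¹ * b) ≫ f₀ = toUnit T ≫ η[C] := by
        rw [MonObj.mul_comp, GrpObj.inv_comp, hab, inv_mul_cancel]
        rfl
      refine ⟨hdk.lift _ _ h9, ?_⟩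
      rw [hdk.lift_fst, mul_inv_cancel_left]
    · rintro ⟨y, rfl⟩
      have h9 : (y ≫ d) ≫ f₀ = 1 := by
        rw [Category.assoc, hdk.w, ← Category.assoc]
        exact (congrArg (fun z => z ≫ η[C]) (toUnit_unique _ (toUnit T)))
      rw [MonObj.mul_comp, h9, _root_.mul_one]
  obtain ⟨Zc, R₁, _, _, j, r₁, hj, hjcl, hr₁⟩ := K545.Centre.exists_radical hZ
  have m1 : IsMonHom r₁ := hr₁.1
  have m2 : Mono r₁ := hr₁.2.1
  have m3 : IsMonHom j := hj.1
  have m4 : Mono j := hj.2.1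
  obtain ⟨-, -, hfin⟩ := Groth.Agent.S6096.result hZ d f₀ hC hdk hquot hkill j hj r₁ hr₁
  -- the torus lies in the radical
  obtain ⟨c, hc⟩ := (hj.2.2 Ta jZ).2 (by
    intro X' x h
    have h1 := hcent Ta (𝟙 Ta) X' x h
    rw [Category.id_comp] at h1
    rw [Category.comp_id]
    exact h1)
  have hch : IsMonHom c := Groth.Agent.Sga3B.Pts.isMonHom_of_points _ fun X x y => by
    rw [← cancel_mono j, MonObj.mul_comp _ _ j, Category.assoc, Category.assoc, Category.assoc, hc, MonObj.mul_comp]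
  obtain ⟨σ, hσ⟩ := K197.Rad.exists_le_rad hZ hj hr₁ hTa c
  have hσm : Mono σ := by
    have : Mono (σ ≫ r₁ ≫ j) := by
      rw [← Category.assoc, hσ, hc]
      infer_instance
    exact mono_of_mono σ (r₁ ≫ j)
  have hσh : IsMonHom σ := Groth.Agent.Sga3B.Pts.isMonHom_of_points _ fun X x y => by
    rw [← cancel_mono r₁, MonObj.mul_comp _ _ r₁, Category.assoc, Category.assoc, Category.assoc, hσ, MonObj.mul_comp]
  have hRa : IsAffineHom R₁.hom := TorusAlgClosed.isAffineHom_of_isTorus hr₁.2.2.1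
  have hRa' : IsAffine R₁.left := isAffine_of_isAffineHom R₁.hom
  have hRs : Smooth R₁.hom := TorusAlgClosed.smooth_of_isTorus hr₁.2.2.1
  have hRf : LocallyOfFiniteType R₁.hom := inferInstance
  have hσcl : IsClosedImmersion σ.left := Groth.Agent.Sga3B.TorClosed636.isClosedImmersion_of_isTorus σ hTa
  have hdcl : IsClosedImmersion d.left := by
    have hsep : IsAffineHom C.hom := TorusAlgClosed.isAffineHom_of_isTorus hCt
    have hη : IsClosedImmersion (η[C] : 𝟙_ (Over (Spec (CommRingCat.of k))) ⟶ _).left :=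
      NonComm.isClosedImmersion_one _
    have h1 := hdk.map (Over.forget _)
    exact MorphismProperty.of_isPullback h1.flip hη
  have hp₁ : IsClosedImmersion p₁.left := by
    have h1 := hI.map (Over.forget _)
    exact MorphismProperty.of_isPullback h1.flip hdcl
  have hinj : Function.Injective (p₁ ≫ σ).left := by
    have : IsClosedImmersion (p₁ ≫ σ).left := by
      rw [Over.comp_left]
      infer_instance
    exact (p₁ ≫ σ).left.isClosedEmbedding.injective
  -- the image is in a fibre of the isogeny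
  let e : (Spec (CommRingCat.of k)) := IsLocalRing.closedPoint k
  have hker' : (p₁ ≫ σ) ≫ r₁ ≫ j ≫ f₀ = toUnit I ≫ η[C] := by
    have h1 : (p₁ ≫ σ) ≫ r₁ ≫ j ≫ f₀ = p₁ ≫ jZ ≫ f₀ := by
      rw [← hc, ← hσ]
      simp only [Category.assoc]
    rw [h1, ← Category.assoc, hI.w, Category.assoc, hdk.w, ← Category.assoc]
    exact (congrArg (fun z => z ≫ η[C]) (toUnit_unique _ (toUnit I)))
  have hfib : (((r₁ ≫ j ≫ f₀).left) ⁻¹' {(η[C] : 𝟙_ (Over (Spec (CommRingCat.of k))) ⟶ C).left e}).Finite :=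
    Scheme.Hom.finite_preimage_singleton _ _
  have hsub : Set.range (p₁ ≫ σ).left ⊆ ((r₁ ≫ j ≫ f₀).left) ⁻¹'
      {(η[C] : 𝟙_ (Over (Spec (CommRingCat.of k))) ⟶ C).left e} := by
    rintro _ ⟨x, rfl⟩
    rw [Set.mem_preimage, Set.mem_singleton_iff]
    have h1 := congrArg (fun z => z.left x) hker'
    simp only [Over.comp_left, Scheme.Hom.comp_apply] at h1
    rw [Over.comp_left, Over.comp_left, Over.comp_left, Scheme.Hom.comp_apply, Scheme.Hom.comp_apply,
      Scheme.Hom.comp_apply, h1]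
    congr 1
    exact Subsingleton.elim (α := PrimeSpectrum k) _ _
  exact (Set.finite_range_iff hinj).1 (hfib.subset hsub)

end K187.SL2Cent
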