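import Groth.Agent.LieWt.K187.SL2Hom

/-!
# Homomorphisms of rank one systems to commutative groups
-/

set_option autoImplicit false
universe u

open CategoryTheory MonoidalCategory CartesianMonoidalCategory MonObj GrpObj AlgebraicGeometry Limits
open WithConv CoordGrp Groth.Agent.Books.AffBridge K187.SL2P K187.SL2Cell
open Groth.Agent.Sga3B.DSPts Groth.Agent.Sga3B.GaPts Groth.Agent.Sga3.H811.Pts K212.R1Alg K212.R1Mk
open Groth.Agent.Sga3B.AffPts Groth.Agent.Sga3B K212.R1Conj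

namespace K187.SL2Comm

variable {S : Scheme.{u}} {G T C : Over S} [GrpObj G] [GrpObj T] [GrpObj C]
  {i : T ⟶ G} {α : T ⟶ Red.Gm S} {pp pm : Red.Ga S ⟶ G} {av : Red.Gm S ⟶ T}
  (H : R1Hyp i α pp pm av) (hC : ∀ (X : Over S) (a b : X ⟶ C), a * b = b * a)
  (g : G ⟶ C) [IsMonHom g]

include H hC

theorem p_comp {X : Over S} (x : Γ(X.left, ⊤)) : (H.sys X).p x ≫ g = 1 := by
  refine K212.Gen.eq_of_generic _ _ fun X' f v hf hv => ?_
  have hv0 := hv 0
  have hv1 := hv 1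
  have hv2 := hv (-1)
  rw [map_zero, sub_zero] at hv0
  rw [map_one] at hv1
  rw [map_neg, map_one, sub_neg_eq_add] at hv2
  obtain ⟨z, hz⟩ := hv0
  obtain ⟨w, hw⟩ := hv1.mul hv2
  have hwi := Units.mul_inv w
  rw [MonObj.comp_one, ← Category.assoc, p_nat]
  set y := f.left.appTop x
  have h1 := (H.sys X').hp z (((w⁻¹ : Γ(X'.left, ⊤)ˣ) : Γ(X'.left, ⊤)) * y)
  have h2 : (z : Γ(X'.left, ⊤)) ^ 2 * (((w⁻¹ : Γ(X'.left, ⊤)ˣ) : Γ(X'.left, ⊤)) * y) =
      y + ((w⁻¹ : Γ(X'.left, ⊤)ˣ) : Γ(X'.left, ⊤)) * y := by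
    rw [hz]
    linear_combination y * hwi - (((w⁻¹ : Γ(X'.left, ⊤)ˣ) : Γ(X'.left, ⊤)) * y) * hw
  rw [h2, (H.sys X').p_add] at h1
  have h3 := congrArg (fun t => t ≫ g) h1
  simp only [MonObj.mul_comp] at h3
  rw [hC X' _ ((H.sys X').h z ≫ g)] at h3
  have h4 := mul_left_cancel h3
  exact (mul_eq_right.1 h4.symm)

theorem q_comp {X : Over S} (x : Γ(X.left, ⊤)) : (H.sys X).q x ≫ g = 1 := by
  refine K212.Gen.eq_of_generic _ _ fun X' f v hf hv => ?_
  have hv0 := hv 0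
  have hv1 := hv 1
  have hv2 := hv (-1)
  rw [map_zero, sub_zero] at hv0
  rw [map_one] at hv1
  rw [map_neg, map_one, sub_neg_eq_add] at hv2
  obtain ⟨z, hz⟩ := hv0
  obtain ⟨w, hw⟩ := hv1.mul hv2
  have hwi := Units.mul_inv w
  rw [MonObj.comp_one, ← Category.assoc, q_nat]
  set y := f.left.appTop x
  have h1 := (H.sys X').hq z⁻¹ (((w⁻¹ : Γ(X'.left, ⊤)ˣ) : Γ(X'.left, ⊤)) * y)
  have h2 : (((z⁻¹)⁻¹ : Γ(X'.left, ⊤)ˣ) : Γ(X'.left, ⊤)) ^ 2 * (((w⁻¹ : Γ(X'.left, ⊤)ˣ) : Γ(X'.left, ⊤)) * y) =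
      y + ((w⁻¹ : Γ(X'.left, ⊤)ˣ) : Γ(X'.left, ⊤)) * y := by
    rw [_root_.inv_inv, hz]
    linear_combination y * hwi - (((w⁻¹ : Γ(X'.left, ⊤)ˣ) : Γ(X'.left, ⊤)) * y) * hw
  rw [h2, (H.sys X').q_add] at h1
  have h3 := congrArg (fun t => t ≫ g) h1
  simp only [MonObj.mul_comp] at h3
  rw [hC X' _ ((H.sys X').h z⁻¹ ≫ g)] at h3
  have h4 := mul_left_cancel h3
  exact (mul_eq_right.1 h4.symm)

theorem h_comp {X : Over S} (z : Γ(X.left, ⊤)ˣ) : (H.sys X).h z ≫ g = 1 := by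
  have hw : ∀ y : Γ(X.left, ⊤)ˣ, (H.sys X).w y ≫ g = 1 := by
    intro y
    rw [R1.w_def, MonObj.mul_comp, MonObj.mul_comp, p_comp H hC, q_comp H hC, _root_.mul_one, _root_.mul_one]
  have h1 := (H.sys X).w_mul z 1
  have h2 := congrArg (fun t => t ≫ g) h1
  simp only [MonObj.mul_comp] at h2
  rw [hw, hw, _root_.mul_one] at h2
  exact h2.symm

/-- the positive root group is killed by homomorphisms to commutative groups -/
theorem pp_comp : pp ≫ g = 1 := by
  have h1 := comp_pp H (𝟙 (Red.Ga S))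
  rw [Category.id_comp] at h1
  rw [congrArg (fun k => k ≫ g) h1]
  exact p_comp H hC g _

/-- the negative root group is killed by homomorphisms to commutative groups -/
theorem pm_comp : pm ≫ g = 1 := by
  have h1 := comp_pm H (𝟙 (Red.Ga S))
  rw [Category.id_comp] at h1
  rw [congrArg (fun k => k ≫ g) h1]
  exact q_comp H hC g _

/-- the coroot is killed by homomorphisms to commutative groups -/
theorem av_comp : av ≫ i ≫ g = 1 := by
  have h1 := comp_av_i H (𝟙 (Red.Gm S))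
  rw [Category.id_comp] at h1
  rw [← Category.assoc, congrArg (fun k => k ≫ g) h1]
  exact h_comp H hC g _

end K187.SL2Comm

namespace K187.SL2Comm

variable {R : Type u} [CommRing R] {C : Over (Spec (CommRingCat.of R))} [GrpObj C]

/-- **Homomorphisms from `SL₂` to commutative groups are trivial.** -/
theorem eq_one (hC : ∀ (X : Over (Spec (CommRingCat.of R))) (a b : X ⟶ C), a * b = b * a)
    (g : SL R ⟶ C) [IsMonHom g] : g = 1 := by
  have h1 : IsMonHom (1 : SL R ⟶ C) := Groth.Agent.Sga3B.Pts.isMonHom_of_points _ fun X t t' => by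
    rw [MonObj.comp_one, MonObj.comp_one, MonObj.comp_one, _root_.mul_one]
  refine K215.R1Ext.hom_ext' r1 cell_open (K212.Kpt.irreducible_of_isReductive (K918.SL2.isReductive R)) ?_ ?_ ?_
  · rw [MonObj.comp_one]
    have := av_comp r1 hC g
    rwa [Category.id_comp] at this
  · rw [MonObj.comp_one]
    exact pp_comp r1 hC g
  · rw [MonObj.comp_one]
    exact pm_comp r1 hC g

end K187.SL2Comm
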