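import Groth.Agent.LieWt.K187.SL2Comm
import Groth.Agent.LieWt.K929.TwoBorel
import Groth.Agent.LieWt.K929.CentRoot
import Groth.Agent.Grpsch.KerMul
import Groth.Agent.S3016
import Groth.Agent.S0348

/-!
# `SL₂` and the derived group of a reductive group of semisimple rank one
-/

set_option autoImplicit false
universe u

open CategoryTheory MonoidalCategory CartesianMonoidalCategory MonObj GrpObj AlgebraicGeometry Limits
open WithConv CoordGrp Groth.Agent.Books.AffBridge K187.SL2P K187.SL2Cell K187.SL2Quot K187.SL2Hom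
open Groth.Agent.Sga3B.DSPts Groth.Agent.Sga3B.GaPts Groth.Agent.Sga3.H811.Pts K212.R1Alg K212.R1Mk
open Groth.Agent.Sga3B.AffPts Groth.Agent.Sga3B

namespace K187.SL2Der

section mats

variable {R : Type u} [CommRing R] {B : Type u} [CommRing B] [Algebra R B]

/-- the two descriptions of the points of `SL₂` -/
lemma ptEquiv_apply (x : SpecOver R B ⟶ SL R) (i j : Fin 2) :
    (ptEquiv x : Matrix (Fin 2) (Fin 2) B) i j =
      fnSpec (R := R) B (((mt (SpecOver R B)).symm x : Matrix (Fin 2) (Fin 2) Γ((SpecOver R B).left, ⊤)) i j) := by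
  obtain ⟨M, rfl⟩ := (mt (SpecOver R B)).surjective x
  rw [MulEquiv.symm_apply_apply]
  change (specPreimage R (affPt (SpecOver R B) (SLn.pt 2 R (B := Fn (SpecOver R B)) M.1 M.2))) (SLn.X i j) = _
  rw [affPt_spec, specPreimage_specMap, AlgHom.comp_apply, SLn.pt_X]
  rfl

lemma isSc_iff (x : SpecOver R B ⟶ SL R) :
    IsSc (ptEquiv x) ↔ IsSc ((mt (SpecOver R B)).symm x) := by
  unfold IsSc
  rw [ptEquiv_apply, ptEquiv_apply, ptEquiv_apply, ptEquiv_apply]
  have hinj := (fnSpec (R := R) B).injective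
  constructor
  · rintro ⟨h1, h2, h3⟩
    exact ⟨hinj (h1.trans (map_zero _).symm), hinj (h2.trans (map_zero _).symm), hinj h3⟩
  · rintro ⟨h1, h2, h3⟩
    rw [h1, h2, h3]
    exact ⟨map_zero _, map_zero _, rfl⟩

lemma isUnit_iff (x : SpecOver R B ⟶ SL R) :
    IsUnit ((ptEquiv x : Matrix (Fin 2) (Fin 2) B) 0 0) ↔
      IsUnit (((mt (SpecOver R B)).symm x : Matrix (Fin 2) (Fin 2) Γ((SpecOver R B).left, ⊤)) 0 0) := by
  rw [ptEquiv_apply]
  exact MulEquiv.isUnit_map (fnSpec (R := R) B)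

/-- the diagonal matrix of a square root of one is scalar -/
lemma isSc_dg {z : Bˣ} (h : z ^ 2 = 1) : IsSc (dg z) := by
  refine ⟨rfl, rfl, ?_⟩
  rw [dg00, dg11]
  congr 1
  rw [pow_two] at h
  exact eq_inv_of_mul_eq_one_left h

lemma up_zero : up (0 : B) = 1 := by
  apply sl_ext <;> simp

lemma lo_zero : lo (0 : B) = 1 := by
  apply sl_ext <;> simp

end mats

section hom

variable {k : Type u} [Field k] {Z : Over (Spec (CommRingCat.of k))} [GrpObj Z] (D : Red.SplitRed Z) (a : D.idx)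

/-- the data of the homomorphism from `SL₂` attached to a root -/
structure IsRootSL (f : SL k ⟶ Z) : Prop where
  hom : IsMonHom f
  hi : i₀ k ≫ f = avT D a ≫ D.i
  hp : pp₀ k ≫ f = D.u a
  hm : ∃ κ : kˣ, pm₀ k ≫ f = K214.SpecDual.scaleHom (κ : k) ≫ D.u (D.P.reflectionPerm a a) ∧
    R1Hyp D.i (rtT D a) (D.u a) (K214.SpecDual.scaleHom (κ : k) ≫ D.u (D.P.reflectionPerm a a)) (avT D a)

theorem exists_isRootSL (b : D.P.Base) : ∃ f : SL k ⟶ Z, IsRootSL D a f := by
  obtain ⟨κ, H⟩ := exists_r1 D b a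
  obtain ⟨f, h1, h2, h3, h4⟩ := exists_hom H
  exact ⟨f, h1, h2, h3, κ, h4, H⟩

variable {D a}

lemma scale_inv {κ : kˣ} {X : Over (Spec (CommRingCat.of k))} (y : X ⟶ Red.Ga (Spec (CommRingCat.of k))) :
    (y ≫ K214.SpecDual.scaleHom ((κ⁻¹ : kˣ) : k)) ≫ K214.SpecDual.scaleHom (κ : k) = y := by
  apply gaFn_injective
  rw [K214.SpecDual.gaFn_comp_scaleHom, K214.SpecDual.gaFn_comp_scaleHom, ← _root_.mul_assoc, ← map_mul,
    Units.mul_inv, map_one, _root_.one_mul]

lemma scale_mono {κ : kˣ} {X : Over (Spec (CommRingCat.of k))} {y y' : X ⟶ Red.Ga (Spec (CommRingCat.of k))}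
    (h : y ≫ K214.SpecDual.scaleHom (κ : k) = y' ≫ K214.SpecDual.scaleHom (κ : k)) : y = y' := by
  have h1 := congrArg Red.gaFn h
  rw [K214.SpecDual.gaFn_comp_scaleHom, K214.SpecDual.gaFn_comp_scaleHom] at h1
  apply gaFn_injective
  have h2 := congrArg (fun t => K214.SpecPt.sc X ((κ⁻¹ : kˣ) : k) * t) h1
  simp only [← _root_.mul_assoc, ← map_mul, Units.inv_mul, map_one, _root_.one_mul] at h2
  exact h2

variable (hone : K929.TwoBorel.OneRoot D.P)

include hone in
/-- **The points of `SL₂` in the big cell whose image lies in the kernel of the root.** -/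
theorem isSc_of_mem {f : SL k ⟶ Z} (hf : IsRootSL D a f) {B : Type u} [CommRing B] [Algebra k B]
    (x : SpecOver k B ⟶ SL k) (hu : IsUnit ((ptEquiv x : Matrix (Fin 2) (Fin 2) B) 0 0))
    (t' : SpecOver k B ⟶ D.T) (ht : x ≫ f = t' ≫ D.i) (hα : t' ≫ rtT D a = 1) : IsSc (ptEquiv x) := by
  rw [isSc_iff]
  rw [isUnit_iff] at hu
  obtain ⟨z, hz⟩ := hu
  set M := (mt (SpecOver k B)).symm x with hM
  have hx : x = mt (SpecOver k B) M := by rw [hM, MulEquiv.apply_symm_apply]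
  have hcell := eq_cell M z hz
  set a₁ := ((z⁻¹ : Γ((SpecOver k B).left, ⊤)ˣ) : Γ((SpecOver k B).left, ⊤)) *
    (M : Matrix (Fin 2) (Fin 2) Γ((SpecOver k B).left, ⊤)) 1 0
  set b₁ := ((z⁻¹ : Γ((SpecOver k B).left, ⊤)ˣ) : Γ((SpecOver k B).left, ⊤)) *
    (M : Matrix (Fin 2) (Fin 2) Γ((SpecOver k B).left, ⊤)) 0 1
  have hhom := hf.hom
  obtain ⟨κ, hκ, H⟩ := hf.hm
  have m1 := H.mpp
  have m2 : IsMonHom (D.u (D.P.reflectionPerm a a)) := (D.rootHom _).1
  have m3 : IsMonHom D.i := D.maximalTorus.1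
  have hx2 : x = (gaPt _ a₁ ≫ pm₀ k) * (gmPt _ z ≫ i₀ k) * (gaPt _ b₁ ≫ pp₀ k) := by
    rw [comp_pm₀, comp_i₀, comp_pp₀, gaFn_gaPt, gaFn_gaPt, uPt_gmPt, ← map_mul, ← map_mul, ← hcell, hx]
  have h1 : x ≫ f = (gaPt _ a₁ ≫ K214.SpecDual.scaleHom (κ : k) ≫ D.u (D.P.reflectionPerm a a)) *
      (gmPt _ z ≫ avT D a ≫ D.i) * (gaPt _ b₁ ≫ D.u a) := by
    rw [hx2, MonObj.mul_comp, MonObj.mul_comp, Category.assoc, Category.assoc, Category.assoc, hκ, hf.hi, hf.hp]
  -- uniqueness in the cell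
  have hopen := K929.TwoBorel.isOpenImmersion_cell hone a
  have hmono : Mono (_root_.RedSub.cellMap D (fun _ : Fin 1 => D.P.reflectionPerm a a) (fun _ : Fin 1 => a)).left :=
    inferInstance
  have hmono' : Mono (_root_.RedSub.cellMap D (fun _ : Fin 1 => D.P.reflectionPerm a a) (fun _ : Fin 1 => a)) :=
    Over.mono_of_mono_left _
  have e1 := K929.TwoBorel.pt_cellMap D (gaPt (SpecOver k B) a₁ ≫ K214.SpecDual.scaleHom (κ : k))
    (gmPt (SpecOver k B) z ≫ avT D a) (gaPt (SpecOver k B) b₁) (D.P.reflectionPerm a a) a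
  have e2 := K929.TwoBorel.pt_cellMap D (1 : SpecOver k B ⟶ Red.Ga _) t' (1 : SpecOver k B ⟶ Red.Ga _)
    (D.P.reflectionPerm a a) a
  rw [MonObj.one_comp, MonObj.one_comp, _root_.one_mul, _root_.mul_one, ← ht, h1] at e2
  have e3 := (cancel_mono _).1 (e1.trans (by
    rw [e2]
    simp only [Category.assoc, _root_.mul_assoc]))
  have f1 : gaPt (SpecOver k B) a₁ ≫ K214.SpecDual.scaleHom (κ : k) = 1 := by
    have := congrArg (fun w => w ≫ fst _ _) e3
    simp only [lift_fst] at this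
    exact K929.TwoBorel.inj1_injective this
  have f2 : gmPt (SpecOver k B) z ≫ avT D a = t' := by
    have := congrArg (fun w => w ≫ snd _ _ ≫ fst _ _) e3
    simp only [lift_snd_assoc, lift_fst] at this
    exact this
  have f3 : gaPt (SpecOver k B) b₁ = 1 := by
    have := congrArg (fun w => w ≫ snd _ _ ≫ snd _ _) e3
    simp only [lift_snd_assoc, lift_snd] at this
    exact K929.TwoBorel.inj1_injective this
  have g1 : a₁ = 0 := by
    have h2 : gaPt (SpecOver k B) a₁ = 1 := by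
      have m4 : IsMonHom (K214.SpecDual.scaleHom (κ : k)) := inferInstance
      apply scale_mono (κ := κ)
      rw [f1]
      exact (MonObj.one_comp _).symm
    have h3 := congrArg Red.gaFn h2
    rwa [gaFn_gaPt, gaFn_one] at h3
  have g3 : b₁ = 0 := by
    have h3 := congrArg Red.gaFn f3
    rwa [gaFn_gaPt, gaFn_one] at h3
  have g2 : z ^ 2 = 1 := by
    rw [← f2, Category.assoc] at hα
    have h4 : avT D a ≫ rtT D a = (𝟙 _) ^ 2 := K215.ChevPin.coroot_comp D a
    rw [h4, MonObj.comp_pow, Category.comp_id] at hα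
    have h5 := congrArg Red.gmFn hα
    rw [gmFn_pow, gmFn_gmPt, gmFn_one] at h5
    exact Units.ext (by rw [Units.val_pow_eq_pow_val, h5, Units.val_one])
  rw [hcell, g1, g3, lo_zero, up_zero, _root_.one_mul, _root_.mul_one]
  exact isSc_dg g2

end hom

end K187.SL2Der
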