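import Groth.Agent.LieWt.K187.SL2Surj
import Groth.Agent.S16782
import Groth.Agent.S3278
import Groth.Agent.S2962
import Groth.Agent.S3972
import Groth.Agent.AGF.K501.IsogTorus
import Groth.Agent.FlatB.GeomRed
import Groth.Agent.FlatB.FppfDom
import Groth.Agent.Sga3B.SsKer
import Groth.Agent.Sga3B.TorClosed636
import Groth.Agent.RedSub.K197.Rad
import Groth.Agent.RedSub.K198.RadSurj
import Groth.Agent.Par.K545.Centre
import Groth.Agent.RedSub.H650.QuotPts

/-!
# Groups of semisimple rank one and `SL₂`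
-/

set_option autoImplicit false
universe u

open CategoryTheory MonoidalCategory CartesianMonoidalCategory MonObj GrpObj AlgebraicGeometry Limits
open WithConv CoordGrp Groth.Agent.Books.AffBridge K187.SL2P K187.SL2Cell K187.SL2Quot K187.SL2Hom
open Groth.Agent.Sga3B K187.SL2Der K187.SL2Surj

namespace K187.SL2Fin

variable {k : Type u} [Field k]

/-- Surjective homomorphisms from `SL₂` to a reduced affine group, with kernel in the centre. -/
theorem conclusion {Q : Over (Spec (CommRingCat.of k))} [GrpObj Q] [IsAffine Q.left] [LocallyOfFiniteType Q.hom]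
    [IsReduced Q.left] (φ : SL k ⟶ Q) [IsMonHom φ] [Surjective φ.left]
    (hker : ∀ (B : Type u) [CommRing B] [Algebra k B] (x : SpecOver k B ⟶ SpecOver k (SLn 2 k)),
      IsUnit ((ptEquiv x : Matrix (Fin 2) (Fin 2) B) 0 0) → x ≫ φ = 1 → IsSc (ptEquiv x)) : IsSLorPGL Q := by
  have h1 : IsLocallyNoetherian Q.left := LocallyOfFiniteType.isLocallyNoetherian Q.hom
  have h2 : LocallyOfFiniteType φ.left := by
    have h3 : LocallyOfFiniteType (φ.left ≫ Q.hom) := by
      rw [Over.w]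
      infer_instance
    exact locallyOfFiniteType_of_comp φ.left Q.hom
  have h4 : LocallyOfFinitePresentation φ.left :=
    Groth.Agent.FlatB.FppfDom.locallyOfFinitePresentation_of_isLocallyNoetherian φ.left
  have h5 : Flat φ.left := K501.IsogTorus.flat_of_surjective φ
  obtain ⟨C, _, c, hc, -⟩ := K545.Centre.exists_centre (K918.SL2.isReductive k)
  exact isSLorPGL φ hker ⟨C, inferInstance, c, hc⟩

/-- `d` is the kernel of a homomorphism to a commutative group and killed by all of them -/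
def HKer {Z DD : Over (Spec (CommRingCat.of k))} [GrpObj Z] (d : DD ⟶ Z) : Prop :=
  ∃ (C : Over (Spec (CommRingCat.of k))) (_ : GrpObj C) (f₀ : Z ⟶ C), IsMonHom f₀ ∧
      (∀ (X : Over (Spec (CommRingCat.of k))) (a b : X ⟶ C), a * b = b * a) ∧ AlgGrp.IsKernel d f₀

/-- the homomorphism from `SL₂` to the derived group -/
theorem exists_lift {Z : Over (Spec (CommRingCat.of k))} [GrpObj Z]
    {DD : Over (Spec (CommRingCat.of k))} [GrpObj DD] (d : DD ⟶ Z) (hker : HKer d) (f : SL k ⟶ Z) [IsMonHom f] :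
    ∃ f' : SL k ⟶ DD, f' ≫ d = f := by
  obtain ⟨C, _, f₀, hf₀, hC, hd⟩ := hker
  have h1 : f ≫ f₀ = toUnit _ ≫ η[C] := by
    rw [K187.SL2Comm.eq_one hC (f ≫ f₀)]
    rfl
  exact ⟨hd.lift f (toUnit _) h1, hd.lift_fst _ _ _⟩

/-- **The derived group is `SL₂` or its central quotient.** -/
theorem isSLorPGL_der {Z : Over (Spec (CommRingCat.of k))} [GrpObj Z] {D : Red.SplitRed Z} {a : D.idx}
    (hone : K929.TwoBorel.OneRoot D.P) {DD : Over (Spec (CommRingCat.of k))} [GrpObj DD] (d : DD ⟶ Z) [IsMonHom d]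
    (hker : HKer d) (hkill : RedSub.KilledByCommutative d) : IsSLorPGL DD := by
  obtain ⟨f, hf⟩ := exists_isRootSL D a (hone.base a)
  have hfh := hf.hom
  obtain ⟨f', hf'⟩ := exists_lift d hker f
  obtain ⟨h1, h2, h3, h4, h5, h6⟩ := SL2Surj.surjective d hone hker hkill hf f' hf'
  have hZa : IsAffineHom Z.hom := D.reductive.1
  have hDa : IsAffineHom DD.hom := by
    rw [← Over.w d]
    infer_instance
  have hDa' : IsAffine DD.left := isAffine_of_isAffineHom DD.hom
  have hred : IsReduced DD.left := Groth.Agent.Flat2B.SmoothGeom.isReduced_of_smooth DD.hom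
  refine conclusion f' fun B _ _ x hu hx => ?_
  refine isSc_of_mem hone hf x hu 1 ?_ ?_
  · have m3 : IsMonHom D.i := D.maximalTorus.1
    rw [← hf', ← Category.assoc, hx, MonObj.one_comp, MonObj.one_comp]
  · exact MonObj.one_comp _

/-- **The quotient by the largest central torus is `SL₂` or its central quotient.** -/
theorem isSLorPGL_quot {H : Over (Spec (CommRingCat.of k))} [GrpObj H] {D : Red.SplitRed H} {a : D.idx}
    (hone : K929.TwoBorel.OneRoot D.P)
    (R : Over (Spec (CommRingCat.of k))) [GrpObj R] (r : R ⟶ H) [IsMonHom r] [Mono r] (hR : Red.IsTorus R)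
    (hRc : (∀ (X : Over (Spec (CommRingCat.of k))) (x : X ⟶ R) (X' : Over (Spec (CommRingCat.of k))) (y : X' ⟶ X) (h : X' ⟶ H),
        (y ≫ x ≫ r) * h = h * (y ≫ x ≫ r)))
    (hRmax : ∀ (R' : Over (Spec (CommRingCat.of k))) [GrpObj R'] (r' : R' ⟶ H) [IsMonHom r'] [Mono r'], Red.IsTorus R' →
      (∀ (X : Over (Spec (CommRingCat.of k))) (x : X ⟶ R') (X' : Over (Spec (CommRingCat.of k))) (y : X' ⟶ X) (h : X' ⟶ H),
        (y ≫ x ≫ r') * h = h * (y ≫ x ≫ r')) →
      ∃ f : R' ⟶ R, f ≫ r = r')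
    (Q : Over (Spec (CommRingCat.of k))) [GrpObj Q] (q : H ⟶ Q) [IsMonHom q] (hq : RedSub.IsQuotient r q) :
    IsSLorPGL Q := by
  have hH := D.reductive
  have hHa : IsAffineHom H.hom := hH.1
  have hHs : Smooth H.hom := hH.2.1
  have hHa' : IsAffine H.left := isAffine_of_isAffineHom H.hom
  have hHr : IsReduced H.left := Groth.Agent.Flat2B.SmoothGeom.isReduced_of_smooth H.hom
  have hrcl : IsClosedImmersion r.left := Groth.Agent.Sga3B.TorClosed636.isClosedImmersion_of_isTorus r hR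
  have hq1 := hq.1
  have hq2 := hq.2.1
  have hq3 := hq.2.2.1
  obtain ⟨f, hf⟩ := exists_isRootSL D a (hone.base a)
  have hfh := hf.hom
  obtain ⟨C, _, f₀, DD, _, d, hf₀, hCt, hsm₀, hsurj₀, hd, hdcl, hdker, hss, hkill, -, -⟩ :=
    Groth.Agent.S3972.result H hH
  have hC := Groth.Agent.Sga3B.MaxTorNear900.mul_comm_of_isTorus hCt
  have hker : HKer d := ⟨C, inferInstance, f₀, hf₀, hC, hdker⟩
  obtain ⟨f', hf'⟩ := exists_lift d hker f
  obtain ⟨h1, h2, h3, h4, h5, h6⟩ := SL2Surj.surjective d hone hker hkill hf f' hf'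
  -- surjectivity
  have hrq : r ≫ q = 1 := by
    have := (Groth.Agent.S16782.comp_eq_iff r hq 1 r).2 ⟨𝟙 R, by rw [Category.id_comp, _root_.one_mul]⟩
    rw [← this, MonObj.one_comp]
  have hsurj : Surjective (f ≫ q).left := by
    obtain ⟨Z, R₁, _, _, j, r₁, hj, hjcl, hr₁⟩ := K545.Centre.exists_radical hH
    have m1 : IsMonHom r₁ := hr₁.1
    have m2 : Mono r₁ := hr₁.2.1
    have m3 : IsMonHom j := hj.1
    have m4 : Mono j := hj.2.1
    obtain ⟨ρ, hρ⟩ := hRmax R₁ (r₁ ≫ j) hr₁.2.2.1 (by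
      intro X x X' y h
      have h7 := (hj.2.2 X (x ≫ r₁ ≫ j)).1 ⟨x ≫ r₁, Category.assoc _ _ _⟩ X' y h
      rwa [Category.comp_id] at h7)
    have h7 := K198.RadSurj.surjective hH d f₀ hC hdker j hj r₁ hr₁
    have h8 : (((r₁ ≫ j) ⊗ₘ d) ≫ μ[H]) ≫ q = snd R₁ DD ≫ d ≫ q := by
      have h9 : ((r₁ ≫ j) ⊗ₘ d) ≫ μ[H] = (fst R₁ DD ≫ r₁ ≫ j) * (snd R₁ DD ≫ d) := by
        rw [Hom.mul_def]
        congr 1
      rw [h9, MonObj.mul_comp, ← hρ, Category.assoc, Category.assoc, hrq, MonObj.comp_one, MonObj.comp_one,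
        _root_.one_mul, Category.assoc]
    have h10 : Surjective ((snd R₁ DD).left ≫ (d ≫ q).left) := by
      rw [← Over.comp_left, ← h8, Over.comp_left]
      infer_instance
    have h11 : Surjective (d ≫ q).left := Surjective.of_comp (snd R₁ DD).left _
    rw [← hf', Category.assoc, Over.comp_left]
    infer_instance
  -- the quotient is affine, reduced and of finite type
  have hnorm : AlgGrp.IsNormalHom r := by
    intro T g n
    refine ⟨n, ?_⟩
    have := hRc T n T (𝟙 T) g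
    rw [Category.id_comp] at this
    rw [← this, mul_inv_cancel_right]
  obtain ⟨Q₀, _, q₀, e1, e2, e3, e4, e5, e6⟩ := Groth.Agent.S3278.result k H R r hnorm
  have e7 : LocallyOfFiniteType q₀.left := by
    have h3 : LocallyOfFiniteType (q₀.left ≫ Q₀.hom) := by
      rw [Over.w]
      infer_instance
    exact locallyOfFiniteType_of_comp q₀.left Q₀.hom
  have e8 : IsLocallyNoetherian Q₀.left := LocallyOfFiniteType.isLocallyNoetherian Q₀.hom
  have e9 : LocallyOfFinitePresentation q₀.left :=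
    Groth.Agent.FlatB.FppfDom.locallyOfFinitePresentation_of_isLocallyNoetherian q₀.left
  have hq₀ : RedSub.IsQuotient r q₀ := by
    refine ⟨e5, e4, e9, Groth.Agent.RedSub.H650.QuotPts.isPullback_of_ptQuot ?_⟩
    intro T a b
    constructor
    · intro hab
      have h9 : (a⁻¹ * b) ≫ q₀ = toUnit T ≫ η[Q₀] := by
        rw [MonObj.mul_comp, GrpObj.inv_comp, hab, inv_mul_cancel]
        rfl
      refine ⟨e6.lift _ _ h9, ?_⟩
      rw [e6.lift_fst, mul_inv_cancel_left]
    · rintro ⟨y, rfl⟩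
      have h9 : (y ≫ r) ≫ q₀ = 1 := by
        rw [Category.assoc, e6.w, ← Category.assoc]
        exact (congrArg (fun z => z ≫ η[Q₀]) (toUnit_unique _ (toUnit T)))
      rw [MonObj.mul_comp, h9, _root_.mul_one]
  obtain ⟨e⟩ := Groth.Agent.S16782.nonempty_iso r hq hq₀
  have i1 : IsIso e.hom.left := inferInstanceAs (IsIso ((Over.forget _).map e.hom))
  have hQa : IsAffine Q.left := IsAffine.of_isIso e.hom.left
  have hQf : LocallyOfFiniteType Q.hom := by
    rw [← Over.w e.hom]
    infer_instance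
  have hQr : IsReduced Q.left := Groth.Agent.FlatB.GeomRed.isReduced_of_flat_of_surjective q.left
  refine conclusion (f ≫ q) fun B _ _ x hu hx => ?_
  obtain ⟨ρ, hρ⟩ := (Groth.Agent.S16782.comp_eq_iff r hq 1 (x ≫ f)).1 (by
    rw [MonObj.one_comp, Category.assoc, hx])
  rw [_root_.one_mul] at hρ
  obtain ⟨t, ht, hα⟩ := (Groth.Agent.S2962.result D (SpecOver k B) (ρ ≫ r)).1 (fun X' y h => hRc _ ρ X' y h)
  exact isSc_of_mem hone hf x hu t (by rw [hρ, ht]) (hα a)

end K187.SL2Fin
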