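import Groth.Agent.LieWt.K187.SL2P
import Groth.Agent.Books.AffBridge
import Groth.Agent.RedSub.H650.QuotPts
import Mathlib.AlgebraicGeometry.Morphisms.FlatMono

/-!
# Quotients of `SL₂` by subgroups of its centre
-/

set_option autoImplicit false
universe u

open CategoryTheory MonoidalCategory CartesianMonoidalCategory MonObj GrpObj AlgebraicGeometry Limits
open WithConv CoordGrp Groth.Agent.Books.AffBridge K187.SL2P
open scoped TensorProduct

namespace K187.SL2Quot

section ext

variable {k : Type u} [CommRing k]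

/-- two morphisms are equal if they agree on the points in `k`-algebras -/
lemma hom_ext_spec {X Y : Over (Spec (CommRingCat.of k))} {f g : X ⟶ Y}
    (h : ∀ (B : Type u) [CommRing B] [Algebra k B] (v : SpecOver k B ⟶ X), v ≫ f = v ≫ g) : f = g := by
  ext : 1
  apply Scheme.Cover.hom_ext X.left.affineOpenCover.openCover
  intro j
  let B := X.left.affineOpenCover.X j
  obtain ⟨ψ, hψ⟩ : ∃ ψ : CommRingCat.of k ⟶ B, Spec.map ψ = X.left.affineOpenCover.f j ≫ X.hom :=
    Spec.map_surjective _
  let _ : Algebra k B := ψ.hom.toAlgebra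
  let w : SpecOver k B ⟶ X := Over.homMk (X.left.affineOpenCover.f j) hψ.symm
  have h1 := congrArg (fun z => z.left) (h B w)
  rw [Over.comp_left, Over.comp_left] at h1
  exact h1

end ext

section pts

variable {k : Type u} [CommRing k] {B C : Type u} [CommRing B] [Algebra k B] [CommRing C] [Algebra k C]

/-- the points of `SL₂` -/
noncomputable def ptEquiv : (SpecOver k B ⟶ SpecOver k (SLn 2 k)) ≃* Matrix.SpecialLinearGroup (Fin 2) B where
  toFun x := mulEquiv (toConv (specPreimage k x))
  invFun M := specMap k (mulEquiv.symm M : WithConv (SLn 2 k →ₐ[k] B)).ofConv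
  left_inv x := by
    simp
  right_inv M := by
    simp
  map_mul' x y := by
    rw [← map_mul]
    congr 1
    apply WithConv.ofConv_injective
    apply specMap_injective k
    rw [specMap_mul]
    simp

lemma ptEquiv_def (x : SpecOver k B ⟶ SpecOver k (SLn 2 k)) :
    ptEquiv x = mulEquiv (toConv (specPreimage k x)) := rfl

lemma ptEquiv_comp (f : B →ₐ[k] C) (x : SpecOver k B ⟶ SpecOver k (SLn 2 k)) (i j : Fin 2) :
    (ptEquiv (specMap k f ≫ x) : Matrix (Fin 2) (Fin 2) C) i j =
      f ((ptEquiv x : Matrix (Fin 2) (Fin 2) B) i j) := by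
  obtain ⟨g, rfl⟩ := (specEquiv k).surjective x
  change (mulEquiv (toConv (specPreimage k (specMap k f ≫ specMap k g))) : Matrix (Fin 2) (Fin 2) C) i j =
    f ((mulEquiv (toConv (specPreimage k (specMap k g))) : Matrix (Fin 2) (Fin 2) B) i j)
  rw [← specMap_comp, specPreimage_specMap, specPreimage_specMap]
  rfl

end pts

section main

variable {k : Type u} [Field k] {Q : Over (Spec (CommRingCat.of k))} [GrpObj Q]

/-- the conclusion of the classification of the groups of rank one: `Q` is `SL₂` or its quotient by the centre -/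
def IsSLorPGL (Q : Over (Spec (CommRingCat.of k))) [GrpObj Q] : Prop :=
  (Nonempty (Grp.mk Q ≅ Grp.mk ((Spec (CommRingCat.of (CoordGrp.SLn 2 k))).asOver (Spec (CommRingCat.of k))))) ∨
    ∃ (p : (Spec (CommRingCat.of (CoordGrp.SLn 2 k))).asOver (Spec (CommRingCat.of k)) ⟶ Q) (_ : IsMonHom p)
      (C : Over (Spec (CommRingCat.of k))) (_ : GrpObj C)
      (c : C ⟶ (Spec (CommRingCat.of (CoordGrp.SLn 2 k))).asOver (Spec (CommRingCat.of k))),
      Red.IsCentre c ∧ RedSub.IsQuotient c p

variable (φ : SpecOver k (SLn 2 k) ⟶ Q) [IsMonHom φ]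

omit [IsMonHom φ] in
/-- the points killed by a homomorphism out of `SL₂` -/
lemma comp_eq_one_iff {A : Type u} [CommRing A] [HopfAlgebra k A] (e : Q ≅ SpecOver k A) [IsMonHom e.hom]
    (ψ : A →ₐc[k] SLn 2 k) (hψ : specMap k (ψ : A →ₐ[k] SLn 2 k) = φ ≫ e.hom)
    {B : Type u} [CommRing B] [Algebra k B] (x : SpecOver k B ⟶ SpecOver k (SLn 2 k)) :
    x ≫ φ = 1 ↔ im ψ (toConv (specPreimage k x)) = 1 := by
  have h1 : x ≫ φ ≫ e.hom = specMap k (im ψ (toConv (specPreimage k x))).ofConv := by
    change _ = specMap k ((specPreimage k x).comp (ψ : A →ₐ[k] SLn 2 k))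
    rw [specMap_comp, hψ, specMap_specPreimage]
  have h2 : (1 : SpecOver k B ⟶ Q) ≫ e.hom = specMap k (1 : WithConv (A →ₐ[k] B)).ofConv := by
    rw [MonObj.one_comp, specMap_one]
  rw [← cancel_mono e.hom, Category.assoc, h1, h2]
  constructor
  · intro h
    exact WithConv.ofConv_injective (specMap_injective k h)
  · intro h
    rw [h]

/-- **Homomorphisms out of `SL₂` whose kernel meets the big cell in scalars.** -/
theorem isSLorPGL [IsAffine Q.left] [Surjective φ.left] [Flat φ.left] [LocallyOfFinitePresentation φ.left]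
    [QuasiCompact φ.left]
    (hker : ∀ (B : Type u) [CommRing B] [Algebra k B] (x : SpecOver k B ⟶ SpecOver k (SLn 2 k)),
      IsUnit ((ptEquiv x : Matrix (Fin 2) (Fin 2) B) 0 0) → x ≫ φ = 1 → IsSc (ptEquiv x))
    (hC : ∃ (C : Over (Spec (CommRingCat.of k))) (_ : GrpObj C) (c : C ⟶ SpecOver k (SLn 2 k)), Red.IsCentre c) :
    IsSLorPGL Q := by
  obtain ⟨A, _, _, e, he⟩ := exists_hopf k Q
  have : IsMonHom (φ ≫ e.hom) := inferInstance
  obtain ⟨ψ, hψ⟩ := exists_bialgHom_of_isMonHom k (φ ≫ e.hom)
  have key : ∀ {B : Type u} [CommRing B] [Algebra k B] (x : SpecOver k B ⟶ SpecOver k (SLn 2 k)),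
      x ≫ φ = 1 ↔ im ψ (toConv (specPreimage k x)) = 1 := fun x => comp_eq_one_iff φ e ψ hψ x
  have hker' : ∀ (B : Type u) [CommRing B] [Algebra k B] (g : WithConv (SLn 2 k →ₐ[k] B)),
      im ψ g = 1 → IsSc (mulEquiv g) := by
    intro B _ _ g hg
    refine isSc_of_ker ψ ?_ g hg
    intro B' _ _ g' hu hg'
    have h1 : toConv (specPreimage k (specMap k g'.ofConv)) = g' := by simp
    have h2 := hker B' (specMap k g'.ofConv) (by rw [ptEquiv_def, h1]; exact hu) ((key _).2 (by rw [h1]; exact hg'))
    rwa [ptEquiv_def, h1] at h2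
  rcases dichotomy ψ hker' with hall | hone
  · -- all the scalars are killed
    right
    have hsc : ∀ {B : Type u} [CommRing B] [Algebra k B] (x : SpecOver k B ⟶ SpecOver k (SLn 2 k)),
        x ≫ φ = 1 ↔ IsSc (ptEquiv x) := by
      intro B _ _ x
      rw [key]
      constructor
      · exact hker' B _
      · intro h
        obtain ⟨t, ht, h1⟩ := eq_sc h
        rw [h1]
        exact hall B t ht
    have hcom : ∀ {B : Type u} [CommRing B] [Algebra k B] (x y : SpecOver k B ⟶ SpecOver k (SLn 2 k)),
        IsSc (ptEquiv x) → x * y = y * x := by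
      intro B _ _ x y h
      obtain ⟨t, ht, h1⟩ := eq_sc h
      apply ptEquiv.injective
      rw [map_mul, map_mul, ptEquiv_def x, h1, ptEquiv_def y, ← map_mul, ← map_mul, sc_comm]
    obtain ⟨C, _, c, hc⟩ := hC
    have hcm := hc.1
    have := hc.2.1
    have hmem : ∀ (X : Over (Spec (CommRingCat.of k))) (g : X ⟶ SpecOver k (SLn 2 k)),
        (∃ z : X ⟶ C, z ≫ c = g) ↔ g ≫ φ = 1 := by
      intro X g
      rw [hc.2.2 X g]
      constructor
      · intro h
        apply hom_ext_spec
        intro B _ _ v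
        have h1 := fun y : SpecOver k B ⟶ SpecOver k (SLn 2 k) => h (SpecOver k B) v y
        rw [MonObj.comp_one, ← Category.assoc, hsc]
        refine isSc_of_comm ?_ ?_
        · have h2 := h1 (ptEquiv.symm (up 1))
          rw [Category.comp_id] at h2
          have h3 := congrArg ptEquiv h2
          rwa [map_mul, map_mul, MulEquiv.apply_symm_apply] at h3
        · have h2 := h1 (ptEquiv.symm (lo 1))
          rw [Category.comp_id] at h2
          have h3 := congrArg ptEquiv h2
          rwa [map_mul, map_mul, MulEquiv.apply_symm_apply] at h3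
      · intro h X' x y
        rw [Category.comp_id]
        apply hom_ext_spec
        intro B _ _ v
        rw [MonObj.comp_mul, MonObj.comp_mul]
        apply hcom
        rw [← hsc, Category.assoc, Category.assoc, h, MonObj.comp_one, MonObj.comp_one]
    refine ⟨φ, inferInstance, C, inferInstance, c, hc, inferInstance, inferInstance, inferInstance, ?_⟩
    apply Groth.Agent.RedSub.H650.QuotPts.isPullback_of_ptQuot
    intro X a b
    constructor
    · intro hab
      obtain ⟨z, hz⟩ := (hmem X (a⁻¹ * b)).2 (by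
        rw [MonObj.mul_comp, GrpObj.inv_comp, hab, inv_mul_cancel])
      refine ⟨z, ?_⟩
      rw [hz, mul_inv_cancel_left]
    · rintro ⟨z, rfl⟩
      rw [MonObj.mul_comp, (hmem X (z ≫ c)).1 ⟨z, rfl⟩, _root_.mul_one]
  · -- the kernel is trivial
    left
    have hmono : Mono φ := by
      refine ⟨fun {X} a b hab => ?_⟩
      have h1 : (a⁻¹ * b) = 1 := by
        apply hom_ext_spec
        intro B _ _ v
        rw [MonObj.comp_one]
        have h2 : (v ≫ (a⁻¹ * b)) ≫ φ = 1 := by
          rw [Category.assoc, MonObj.mul_comp, GrpObj.inv_comp, hab, inv_mul_cancel, MonObj.comp_one]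
        have h3 := hone B _ ((key _).1 h2)
        apply ptEquiv.injective
        rw [ptEquiv_def, h3, map_one, map_one]
      rw [inv_mul_eq_one] at h1
      exact h1
    have hmono' : Mono φ.left := inferInstance
    have hiso : IsIso φ.left := Flat.isIso_of_surjective_of_mono φ.left
    have hiso0 : IsIso ((Over.forget _).map φ) := hiso
    have hiso' : IsIso φ := isIso_of_reflects_iso φ (Over.forget _)
    exact ⟨(Grp.mkIso' (asIso φ)).symm⟩

end main

end K187.SL2Quot
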