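import Groth.Agent.LieWt.K187.SL2Cell
import Groth.Agent.LieWt.K187.SL2Quot
import Groth.Agent.Red.K918.SL2
import Groth.Agent.Red.K214.ZSpec
import Groth.Agent.Red.K215.R1Ext
import Groth.Agent.Red.K215.ChevPin
import Groth.Agent.S5572
import Groth.Agent.LieWt.K929.CharLemmas

/-!
# The homomorphism from `SL₂` attached to a root of a split reductive group
-/

set_option autoImplicit false
universe u

open CategoryTheory MonoidalCategory CartesianMonoidalCategory MonObj GrpObj AlgebraicGeometry Limits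
open WithConv CoordGrp Groth.Agent.Books.AffBridge K187.SL2P K187.SL2Cell
open Groth.Agent.Sga3B.DSPts Groth.Agent.Sga3B.GaPts Groth.Agent.Sga3.H811.Pts K212.R1Alg K212.R1Mk
open Groth.Agent.Sga3B.AffPts Groth.Agent.Sga3B

namespace K187.SL2Hom

section r1

variable {R : Type u} [CommRing R] {G : Over (Spec (CommRingCat.of R))} [GrpObj G]

/-- the coroot as a cocharacter of the torus -/
noncomputable def avT (D : Red.SplitRed G) (a : D.idx) : Red.Gm (Spec (CommRingCat.of R)) ⟶ D.T :=
  Red.DSmap (Spec (CommRingCat.of R)) (D.P.coroot a).toAddMonoidHom ≫ D.split.inv.hom.hom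

instance (D : Red.SplitRed G) (a : D.idx) : IsMonHom (avT D a) := by
  have := BorSpan613.isMonHom_DSmap (Spec (CommRingCat.of R)) (D.P.coroot a).toAddMonoidHom
  unfold avT
  infer_instance

/-- the root as a character of the torus -/
noncomputable def rtT (D : Red.SplitRed G) (a : D.idx) : D.T ⟶ Red.Gm (Spec (CommRingCat.of R)) :=
  D.split.hom.hom.hom ≫ Red.chi (Spec (CommRingCat.of R)) (D.P.root a)

instance (D : Red.SplitRed G) (a : D.idx) : IsMonHom (rtT D a) := by
  have : IsMonHom (Red.chi (Spec (CommRingCat.of R)) (D.P.root a)) :=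
    BorSpan613.isMonHom_DSmap (Spec (CommRingCat.of R)) (zmultiplesHom D.M (D.P.root a))
  unfold rtT
  infer_instance

lemma rtT_reflection (D : Red.SplitRed G) (a : D.idx) :
    rtT D (D.P.reflectionPerm a a) = (rtT D a)⁻¹ := by
  rw [rtT, D.P.root_reflectionPerm, D.P.reflection_apply_self, K929.CharLemmas.chi_neg, GrpObj.comp_inv]
  rfl

/-- **The rank one system of a root**, over an affine base. -/
theorem exists_r1 (D : Red.SplitRed G) (b : D.P.Base) (a : D.idx) :
    ∃ κ : Rˣ, R1Hyp D.i (rtT D a) (D.u a) (K214.SpecDual.scaleHom (κ : R) ≫ D.u (D.P.reflectionPerm a a))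
      (avT D a) := by
  obtain ⟨κ, hκ⟩ := K214.ZSpec.exists_dual D b
  have h1 := D.rootHom a
  have h2 := D.rootHom (D.P.reflectionPerm a a)
  have m1 := h1.1
  have m2 := h2.1
  have m3 : IsMonHom D.i := D.maximalTorus.1
  refine ⟨κ a, ⟨inferInstance, inferInstance, inferInstance, inferInstance, inferInstance, ?_, h1.2.2, ?_,
    K215.ChevPin.coroot_comp D a, (hκ a).1.pts⟩⟩
  · exact MaxTorNear900.mul_comm_of_isTorus D.maximalTorus.2.2.1
  · intro X t y
    obtain ⟨z, hz1, hz2⟩ := h2.2.2 X t (y ≫ K214.SpecDual.scaleHom (κ a : R))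
    refine ⟨gaPt X (Red.gmFn (t ≫ rtT D (D.P.reflectionPerm a a)) * Red.gaFn y), ?_, ?_⟩
    · have e1 : gaPt X (Red.gmFn (t ≫ rtT D (D.P.reflectionPerm a a)) * Red.gaFn y) ≫
          K214.SpecDual.scaleHom (κ a : R) = z := by
        apply gaFn_injective
        rw [hz2, K214.SpecDual.gaFn_comp_scaleHom, K214.SpecDual.gaFn_comp_scaleHom, gaFn_gaPt, mul_left_comm]
        rfl
      rw [← Category.assoc, e1, hz1, Category.assoc]
    · rw [gaFn_gaPt, rtT_reflection, mul_right_comm, ← gmFn_mul, GrpObj.comp_inv, inv_mul_cancel, gmFn_one,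
        _root_.one_mul]

/-- pulling a rank one system back along the coroot -/
theorem r1_coroot {T : Over (Spec (CommRingCat.of R))} [GrpObj T] {i : T ⟶ G} {α : T ⟶ Red.Gm (Spec (CommRingCat.of R))}
    {pp pm : Red.Ga (Spec (CommRingCat.of R)) ⟶ G} {av : Red.Gm (Spec (CommRingCat.of R)) ⟶ T}
    (H : R1Hyp i α pp pm av) :
    R1Hyp (av ≫ i) ((𝟙 (Red.Gm (Spec (CommRingCat.of R)))) ^ 2) pp pm (𝟙 (Red.Gm (Spec (CommRingCat.of R)))) where
  mi := by have := H.mi; have := H.mav; infer_instance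
  ma := (r1 (R := R)).ma
  mpp := H.mpp
  mpm := H.mpm
  mav := inferInstance
  tcomm := (r1 (R := R)).tcomm
  hpp X t x := by
    have h := H.hpp X (t ≫ av) x
    rw [Category.assoc, Category.assoc, H.h2] at h
    exact h
  hpm X t y := by
    have h := H.hpm X (t ≫ av) y
    rw [Category.assoc, Category.assoc, H.h2] at h
    exact h
  h2 := Category.id_comp _
  hF X x y hu := by
    obtain ⟨x', y', z, h1, h2, h3, h4⟩ := H.hF X x y hu
    refine ⟨x', y', z, h1, h2, h3, ?_⟩
    rw [Category.id_comp]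
    exact h4

instance : LocallyOfFiniteType (SL R).hom := by
  have h1 : Smooth (SL R).hom := (K918.SL2.isReductive R).2.1
  infer_instance

/-- **The homomorphism from `SL₂` of a rank one system.** -/
theorem exists_hom {T : Over (Spec (CommRingCat.of R))} [GrpObj T] {i : T ⟶ G} {α : T ⟶ Red.Gm (Spec (CommRingCat.of R))}
    {pp pm : Red.Ga (Spec (CommRingCat.of R)) ⟶ G} {av : Red.Gm (Spec (CommRingCat.of R)) ⟶ T}
    (H : R1Hyp i α pp pm av) :
    ∃ f : SL R ⟶ G, IsMonHom f ∧ i₀ R ≫ f = av ≫ i ∧ pp₀ R ≫ f = pp ∧ pm₀ R ≫ f = pm :=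
  K215.R1Ext.exists_hom r1 cell_open (r1_coroot H) (K212.Kpt.irreducible_of_isReductive (K918.SL2.isReductive R))

end r1

end K187.SL2Hom
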