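import Groth.Agent.InvQ.K702.Points
import Mathlib.LinearAlgebra.Matrix.SpecialLinearGroup
import Mathlib.RingTheory.Bialgebra.Convolution
import Mathlib.RingTheory.HopfAlgebra.Convolution
import Mathlib.RingTheory.AdjoinRoot
import Mathlib.RingTheory.Ideal.Quotient.Basic
import Mathlib.Tactic

/-!
# Points of `SL₂` and homomorphisms out of `SL₂` with kernel inside the centre
-/

set_option autoImplicit false
universe u v w

open CoordGrp K702.SL K702.Pt WithConv
open scoped Matrix Polynomial

namespace K187.SL2P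

section pts

variable {n : ℕ} {k : Type u} [CommRing k] {B : Type v} [CommRing B] [Algebra k B]
  {C : Type w} [CommRing C] [Algebra k C]

/-- the group of `B`-points of the special linear group is the group of matrices of determinant one -/
noncomputable def mulEquiv : WithConv (SLn n k →ₐ[k] B) ≃* Matrix.SpecialLinearGroup (Fin n) B where
  toFun g := ⟨mat g.ofConv, det_mat g.ofConv⟩
  invFun M := toConv (SLn.pt n k M.1 M.2)
  left_inv g := by
    apply WithConv.ofConv_injective
    exact pt_mat g.ofConv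
  right_inv M := by
    apply Subtype.ext
    exact mat_pt M.1 M.2
  map_mul' g h := by
    apply Subtype.ext
    have h1 : (g * h).ofConv = cmul g.ofConv h.ofConv := by
      rw [AlgHom.convMul_def]
      apply AlgHom.ext
      intro a
      simp only [cmul, AlgHom.comp_apply]
      induction (Bialgebra.comulAlgHom k (SLn n k)) a using TensorProduct.induction_on with
      | zero => simp
      | tmul x y => simp
      | add x y hx hy => simp only [map_add, hx, hy]
    change mat (g * h).ofConv = mat g.ofConv * mat h.ofConv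
    rw [h1]
    exact mat_cmul g.ofConv h.ofConv

lemma mulEquiv_apply (g : WithConv (SLn n k →ₐ[k] B)) (i j : Fin n) :
    (mulEquiv g : Matrix (Fin n) (Fin n) B) i j = g.ofConv (SLn.X i j) := rfl

/-- pushing a point along an algebra homomorphism -/
noncomputable def push {A : Type*} [CommRing A] [Algebra k A] (f : B →ₐ[k] C) (g : WithConv (A →ₐ[k] B)) :
    WithConv (A →ₐ[k] C) :=
  toConv (f.comp g.ofConv)

lemma push_one {A : Type*} [CommRing A] [Bialgebra k A] (f : B →ₐ[k] C) :
    push f (1 : WithConv (A →ₐ[k] B)) = 1 := by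
  apply WithConv.ofConv_injective
  apply AlgHom.ext
  intro a
  change f (algebraMap k B (CoalgebraStruct.counit (R := k) a)) = algebraMap k C (CoalgebraStruct.counit (R := k) a)
  rw [AlgHom.commutes]

lemma mulEquiv_push (f : B →ₐ[k] C) (g : WithConv (SLn n k →ₐ[k] B)) (i j : Fin n) :
    (mulEquiv (push f g) : Matrix (Fin n) (Fin n) C) i j = f ((mulEquiv g : Matrix (Fin n) (Fin n) B) i j) := rfl

end pts

section ker

variable {k : Type u} [CommRing k] {A : Type u} [CommRing A] [HopfAlgebra k A]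
  (ψ : A →ₐc[k] SLn 2 k) {B : Type u} [CommRing B] [Algebra k B] {C : Type u} [CommRing C] [Algebra k C]

/-- the image of a point under the homomorphism with comorphism `ψ` -/
noncomputable def im : WithConv (SLn 2 k →ₐ[k] B) →* WithConv (A →ₐ[k] B) where
  toFun g := toConv (g.ofConv.comp (ψ : A →ₐ[k] SLn 2 k))
  map_one' := by
    apply WithConv.ofConv_injective
    apply AlgHom.ext
    intro a
    change algebraMap k B (CoalgebraStruct.counit (R := k) (ψ a)) = algebraMap k B (CoalgebraStruct.counit (R := k) a)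
    rw [CoalgHomClass.counit_comp_apply]
  map_mul' g h := WithConv.ofConv_injective (AlgHom.convMul_comp_bialgHom_distrib g h ψ)

lemma im_apply (g : WithConv (SLn 2 k →ₐ[k] B)) (a : A) : (im ψ g).ofConv a = g.ofConv (ψ a) := rfl

lemma im_push (f : B →ₐ[k] C) (g : WithConv (SLn 2 k →ₐ[k] B)) : im ψ (push f g) = push f (im ψ g) := rfl

/-- the point is a scalar matrix -/
def IsSc {B : Type u} [CommRing B] (M : Matrix.SpecialLinearGroup (Fin 2) B) : Prop :=
  (M : Matrix (Fin 2) (Fin 2) B) 0 1 = 0 ∧ (M : Matrix (Fin 2) (Fin 2) B) 1 0 = 0 ∧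
    (M : Matrix (Fin 2) (Fin 2) B) 0 0 = (M : Matrix (Fin 2) (Fin 2) B) 1 1

/-- the elementary matrix -/
def up {B : Type u} [CommRing B] (s : B) : Matrix.SpecialLinearGroup (Fin 2) B :=
  ⟨!![1, s; 0, 1], by simp [Matrix.det_fin_two]⟩

/-- the lower elementary matrix -/
def lo {B : Type u} [CommRing B] (s : B) : Matrix.SpecialLinearGroup (Fin 2) B :=
  ⟨!![1, 0; s, 1], by simp [Matrix.det_fin_two]⟩

lemma up_mul_neg (s : B) : up s * up (-s) = 1 := by
  apply Subtype.ext
  ext i j
  fin_cases i <;> fin_cases j <;> simp [up, Matrix.mul_apply, Fin.sum_univ_two]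

/-- If the kernel meets the big cell in scalars, it consists of scalars. -/
theorem isSc_of_ker (h : ∀ (B : Type u) [CommRing B] [Algebra k B] (g : WithConv (SLn 2 k →ₐ[k] B)),
      IsUnit ((mulEquiv g : Matrix (Fin 2) (Fin 2) B) 0 0) → im ψ g = 1 → IsSc (mulEquiv g))
    (g : WithConv (SLn 2 k →ₐ[k] B)) (hg : im ψ g = 1) : IsSc (mulEquiv g) := by
  apply h B g ?_ hg
  by_contra hu
  obtain ⟨m, hm, hmem⟩ := exists_max_ideal_of_mem_nonunits hu
  let K := B ⧸ m
  let _ : Field K := Ideal.Quotient.field m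
  let π : B →ₐ[k] K := Ideal.Quotient.mkₐ k m
  let g' : WithConv (SLn 2 k →ₐ[k] K) := push π g
  have hg' : im ψ g' = 1 := by rw [im_push, hg, push_one]
  have h00 : (mulEquiv g' : Matrix (Fin 2) (Fin 2) K) 0 0 = 0 := by
    rw [mulEquiv_push]
    exact Ideal.Quotient.eq_zero_iff_mem.2 hmem
  let U : WithConv (SLn 2 k →ₐ[k] K) := mulEquiv.symm (up 1)
  let U' : WithConv (SLn 2 k →ₐ[k] K) := mulEquiv.symm (up (-1))
  have hU : U * U' = 1 := by
    apply (mulEquiv (n := 2) (k := k) (B := K)).injective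
    rw [map_mul, MulEquiv.apply_symm_apply, MulEquiv.apply_symm_apply, up_mul_neg, map_one]
  have hc : im ψ (U * g' * U') = 1 := by
    rw [map_mul, map_mul, hg', mul_one, ← map_mul, hU, map_one]
  have hm' : mulEquiv (U * g' * U') = up 1 * mulEquiv g' * up (-1) := by
    rw [map_mul, map_mul, MulEquiv.apply_symm_apply, MulEquiv.apply_symm_apply]
  set M := mulEquiv g' with hM
  have e00 : (mulEquiv (U * g' * U') : Matrix (Fin 2) (Fin 2) K) 0 0 = (M : Matrix (Fin 2) (Fin 2) K) 1 0 := by
    rw [hm', Matrix.SpecialLinearGroup.coe_mul, Matrix.SpecialLinearGroup.coe_mul, Matrix.mul_apply,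
      Fin.sum_univ_two, Matrix.mul_apply, Matrix.mul_apply, Fin.sum_univ_two, Fin.sum_univ_two]
    simp [up, h00]
  have e10 : (mulEquiv (U * g' * U') : Matrix (Fin 2) (Fin 2) K) 1 0 = (M : Matrix (Fin 2) (Fin 2) K) 1 0 := by
    rw [hm', Matrix.SpecialLinearGroup.coe_mul, Matrix.SpecialLinearGroup.coe_mul, Matrix.mul_apply,
      Fin.sum_univ_two, Matrix.mul_apply, Matrix.mul_apply, Fin.sum_univ_two, Fin.sum_univ_two]
    simp [up]
  have hdet := M.2
  rw [Matrix.det_fin_two, h00, zero_mul, zero_sub] at hdet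
  have hne : (M : Matrix (Fin 2) (Fin 2) K) 1 0 ≠ 0 := by
    intro h0
    rw [h0, mul_zero, neg_zero] at hdet
    exact zero_ne_one hdet
  have := (h K _ (by rw [e00]; exact hne.isUnit) hc).2.1
  rw [e10] at this
  exact hne this

/-- the scalar point -/
noncomputable def sc (k : Type u) [CommRing k] {B : Type u} [CommRing B] [Algebra k B] (t : B) (ht : t * t = 1) :
    WithConv (SLn 2 k →ₐ[k] B) :=
  mulEquiv.symm ⟨!![t, 0; 0, t], by simp [Matrix.det_fin_two, ht]⟩

lemma mulEquiv_sc (t : B) (ht : t * t = 1) :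
    (mulEquiv (sc k t ht) : Matrix (Fin 2) (Fin 2) B) = !![t, 0; 0, t] := by
  rw [sc, MulEquiv.apply_symm_apply]

lemma mulEquiv_ext {g h : WithConv (SLn 2 k →ₐ[k] B)}
    (e : (mulEquiv g : Matrix (Fin 2) (Fin 2) B) = mulEquiv h) : g = h :=
  mulEquiv.injective (Subtype.ext e)

lemma sc_one : sc k (1 : B) (mul_one 1) = 1 := by
  apply mulEquiv_ext
  rw [mulEquiv_sc, map_one]
  ext i j
  fin_cases i <;> fin_cases j <;> simp

lemma push_sc (f : B →ₐ[k] C) (t : B) (ht : t * t = 1) :
    push f (sc k t ht) = sc k (f t) (by rw [← map_mul, ht, map_one]) := by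
  apply mulEquiv_ext
  ext i j
  rw [mulEquiv_push, mulEquiv_sc, mulEquiv_sc]
  fin_cases i <;> fin_cases j <;> simp

lemma eq_sc {g : WithConv (SLn 2 k →ₐ[k] B)} (hg : IsSc (mulEquiv g)) :
    ∃ (t : B) (ht : t * t = 1), g = sc k t ht := by
  obtain ⟨h1, h2, h3⟩ := hg
  have hdet := (mulEquiv g).2
  rw [Matrix.det_fin_two, h1, h2, ← h3, mul_zero, sub_zero] at hdet
  refine ⟨_, hdet, mulEquiv_ext ?_⟩
  rw [mulEquiv_sc]
  ext i j
  fin_cases i <;> fin_cases j
  · rfl
  · exact h1
  · exact h2
  · exact h3.symm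

lemma sc_comm (t : B) (ht : t * t = 1) (g : WithConv (SLn 2 k →ₐ[k] B)) : sc k t ht * g = g * sc k t ht := by
  apply mulEquiv_ext
  rw [map_mul, map_mul, Matrix.SpecialLinearGroup.coe_mul, Matrix.SpecialLinearGroup.coe_mul, mulEquiv_sc]
  ext i j
  fin_cases i <;> fin_cases j <;> simp [Matrix.mul_apply, Fin.sum_univ_two, mul_comm]

/-- a point commuting with the two elementary matrices is scalar -/
lemma isSc_of_comm {M : Matrix.SpecialLinearGroup (Fin 2) B} (h1 : M * up 1 = up 1 * M)
    (h2 : M * lo 1 = lo 1 * M) : IsSc M := by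
  have e1 := congrArg (fun N : Matrix.SpecialLinearGroup (Fin 2) B => (N : Matrix (Fin 2) (Fin 2) B)) h1
  have e2 := congrArg (fun N : Matrix.SpecialLinearGroup (Fin 2) B => (N : Matrix (Fin 2) (Fin 2) B)) h2
  have a1 := congrFun (congrFun e1 0) 0
  have a2 := congrFun (congrFun e1 0) 1
  have a3 := congrFun (congrFun e2 0) 0
  simp [up, lo, Matrix.mul_apply, Fin.sum_univ_two] at a1 a2 a3
  refine ⟨a3, a1, ?_⟩
  rw [add_comm] at a2
  exact add_left_cancel a2

end ker

section field

variable {k : Type u} [Field k] {A : Type u} [CommRing A] [HopfAlgebra k A]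
  (ψ : A →ₐc[k] SLn 2 k)

/-- A homomorphism out of `SL₂` over a field, whose kernel consists of scalars, kills all scalars or has trivial
kernel. -/
theorem dichotomy (h : ∀ (B : Type u) [CommRing B] [Algebra k B] (g : WithConv (SLn 2 k →ₐ[k] B)),
      im ψ g = 1 → IsSc (mulEquiv g)) :
    (∀ (B : Type u) [CommRing B] [Algebra k B] (t : B) (ht : t * t = 1), im ψ (sc k t ht) = 1) ∨
      (∀ (B : Type u) [CommRing B] [Algebra k B] (g : WithConv (SLn 2 k →ₐ[k] B)), im ψ g = 1 → g = 1) := by
  classical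
  let P : k[X] := Polynomial.X ^ 2 - 1
  let B₀ := AdjoinRoot P
  let r : B₀ := AdjoinRoot.root P
  have hr : r * r = 1 := by
    have h1 : Polynomial.aeval r P = 0 := by
      have := AdjoinRoot.eval₂_root P
      rw [Polynomial.aeval_def]
      exact this
    have h2 : r ^ 2 - 1 = 0 := by
      simpa [P] using h1
    rw [← pow_two]
    exact sub_eq_zero.1 h2
  let F : A → B₀ := fun f => (im ψ (sc k r hr)).ofConv f
  have hlift : ∀ (B : Type u) [CommRing B] [Algebra k B] (t : B) (ht : t * t = 1),
      ∃ ℓ : B₀ →ₐ[k] B, ℓ r = t := by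
    intro B _ _ t ht
    refine ⟨AdjoinRoot.liftAlgHom P (Algebra.ofId k B) t ?_, ?_⟩
    · simp [P, pow_two, ht]
    · exact AdjoinRoot.liftAlgHom_root _ _ _ _
  have hF : ∀ (B : Type u) [CommRing B] [Algebra k B] (t : B) (ht : t * t = 1) (ℓ : B₀ →ₐ[k] B) (_ : ℓ r = t)
      (f : A), (im ψ (sc k t ht)).ofConv f = ℓ (F f) := by
    intro B _ _ t ht ℓ hℓ f
    have h1 : sc k t ht = push ℓ (sc k r hr) := by
      rw [push_sc]
      congr 1
      exact hℓ.symm
    rw [h1, im_push]
    rfl
  have hone : ∀ (B : Type u) [CommRing B] [Algebra k B] (f : A),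
      (1 : WithConv (A →ₐ[k] B)).ofConv f = algebraMap k B (CoalgebraStruct.counit (R := k) f) := fun _ _ _ _ => rfl
  by_cases hall : ∀ f, F f = algebraMap k B₀ (CoalgebraStruct.counit (R := k) f)
  · left
    intro B _ _ t ht
    obtain ⟨ℓ, hℓ⟩ := hlift B t ht
    apply WithConv.ofConv_injective
    apply AlgHom.ext
    intro f
    rw [hF B t ht ℓ hℓ, hall, AlgHom.commutes, hone]
  · right
    push Not at hall
    obtain ⟨f, hf⟩ := hall
    -- the shape of the elements of `B₀`
    obtain ⟨a, b, hab⟩ : ∃ a b : k, F f = algebraMap k B₀ a + algebraMap k B₀ b * r := by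
      obtain ⟨p, hp⟩ := AdjoinRoot.mk_surjective (g := P) (F f)
      have hmon : P.Monic := by
        change (Polynomial.X ^ 2 - 1 : k[X]).Monic
        have := Polynomial.monic_X_pow_sub_C (1 : k) (n := 2) (by norm_num)
        rwa [map_one] at this
      have hdeg : P.natDegree = 2 := by
        change (Polynomial.X ^ 2 - 1 : k[X]).natDegree = 2
        have := Polynomial.natDegree_X_pow_sub_C (n := 2) (r := (1 : k))
        rwa [map_one] at this
      have h1 : AdjoinRoot.mk P p = AdjoinRoot.mk P (p %ₘ P) := by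
        conv_lhs => rw [← Polynomial.modByMonic_add_div p P]
        rw [map_add, map_mul, AdjoinRoot.mk_self, zero_mul, add_zero]
      have h2 : (p %ₘ P).natDegree < 2 := by
        rw [← hdeg]
        exact Polynomial.natDegree_modByMonic_lt p hmon (by
          intro h0
          have := congrArg Polynomial.natDegree h0
          rw [hdeg, Polynomial.natDegree_one] at this
          exact two_ne_zero this)
      have h3 := Polynomial.as_sum_range' (p %ₘ P) 2 h2
      refine ⟨(p %ₘ P).coeff 0, (p %ₘ P).coeff 1, ?_⟩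
      rw [← hp, h1, h3]
      simp only [Finset.sum_range_succ, Finset.range_zero, Finset.sum_empty, zero_add, map_add]
      rw [← Polynomial.C_mul_X_pow_eq_monomial, ← Polynomial.C_mul_X_pow_eq_monomial]
      simp only [pow_zero, mul_one, pow_one, map_mul, AdjoinRoot.mk_X, AdjoinRoot.mk_C]
      simp [Polynomial.coeff_X]
      rfl
    obtain ⟨ℓ₁, hℓ₁⟩ := hlift k 1 (mul_one 1)
    have h1 : a + b = CoalgebraStruct.counit (R := k) f := by
      have := hF k 1 (mul_one 1) ℓ₁ hℓ₁ f
      rw [sc_one, map_one, hone, hab, map_add, map_mul, AlgHom.commutes, AlgHom.commutes, hℓ₁, mul_one] at this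
      exact this.symm
    have hb : b ≠ 0 := by
      intro hb
      apply hf
      rw [hab, ← h1, hb, map_zero, zero_mul, add_zero, add_zero]
    intro B _ _ g hg
    obtain ⟨t, ht, rfl⟩ := eq_sc (h B g hg)
    obtain ⟨ℓ, hℓ⟩ := hlift B t ht
    have h2 := hF B t ht ℓ hℓ f
    rw [hg, hone, hab, map_add, map_mul, AlgHom.commutes, AlgHom.commutes, hℓ, ← h1, map_add,
      add_right_inj] at h2
    have h3 : t = 1 := by
      have h4 : algebraMap k B b⁻¹ * (algebraMap k B b * t) = algebraMap k B b⁻¹ * algebraMap k B b := by rw [← h2]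
      rwa [← mul_assoc, ← map_mul, inv_mul_cancel₀ hb, map_one, one_mul] at h4
    subst h3
    exact sc_one

end field

end K187.SL2P
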