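import Groth.Agent.LieWt.K187.SL2Der

/-!
# `SL₂` maps onto the derived group of a reductive group of semisimple rank one
-/

set_option autoImplicit false
universe u

open CategoryTheory MonoidalCategory CartesianMonoidalCategory MonObj GrpObj AlgebraicGeometry Limits
open WithConv CoordGrp Groth.Agent.Books.AffBridge K187.SL2P K187.SL2Cell K187.SL2Quot K187.SL2Hom
open Groth.Agent.Sga3B.DSPts Groth.Agent.Sga3B.GaPts Groth.Agent.Sga3.H811.Pts K212.R1Alg K212.R1Mk
open Groth.Agent.Sga3B.AffPts Groth.Agent.Sga3B K187.SL2Der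

namespace K187.SL2Surj

section roots

variable {k : Type u} [Field k] {Z : Over (Spec (CommRingCat.of k))} [GrpObj Z] {D : Red.SplitRed Z} {a : D.idx}

/-- units of `Γ(Spec K)` have roots for `K` algebraically closed -/
lemma exists_root {K : Type u} [Field K] [IsAlgClosed K] (g : ℕ) (hg : 0 < g)
    (x : Γ(Spec (CommRingCat.of K), ⊤)ˣ) : ∃ s : Γ(Spec (CommRingCat.of K), ⊤)ˣ, s ^ g = x := by
  let e : Γ(Spec (CommRingCat.of K), ⊤) ≃+* K := (Scheme.ΓSpecIso (CommRingCat.of K)).commRingCatIsoToRingEquiv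
  obtain ⟨y, hy⟩ := IsAlgClosed.exists_pow_nat_eq (e x) hg
  have hy0 : y ≠ 0 := by
    rintro rfl
    rw [zero_pow hg.ne'] at hy
    have h1 : IsUnit (e x) := (x.isUnit).map e
    rw [← hy] at h1
    exact not_isUnit_zero h1
  refine ⟨Units.map (e.symm : K →* _) (Units.mk0 y hy0), ?_⟩
  apply Units.ext
  rw [← map_pow]
  change e.symm ((Units.mk0 y hy0 ^ g : Kˣ) : K) = x
  rw [Units.val_pow_eq_pow_val, Units.val_mk0, hy, RingEquiv.symm_apply_apply]

/-- A point of the torus over an algebraically closed field killed by the characters orthogonal to the coroot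
comes from the coroot. -/
theorem exists_coroot_pt (hone : K929.TwoBorel.OneRoot D.P) {K : Type u} [Field K] [IsAlgClosed K]
    (s : Spec (CommRingCat.of K) ⟶ Spec (CommRingCat.of k)) (t : Over.mk s ⟶ D.T)
    (ht : t ≫ D.split.hom.hom.hom ≫ Red.DSmap (Spec (CommRingCat.of k)) (K929.HopfChart.corN D).subtype = 1) :
    ∃ z : Γ((Over.mk s).left, ⊤)ˣ, t = gmPt _ z ≫ avT D a := by
  have hb : ∀ c : D.idx, D.P.root c = D.P.root a ∨ D.P.root c = -D.P.root a := fun c => hone a c
  let χ : Multiplicative D.M →* Γ((Over.mk s).left, ⊤) := dsChar (t ≫ D.split.hom.hom.hom)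
  have hχ : ∀ n : D.M, D.P.coroot a n = 0 → χ (Multiplicative.ofAdd n) = 1 := by
    intro n hn
    have h1 : n ∈ K929.HopfChart.corN D := fun c => K929.HopfChart.coroot_of D a hb c n hn
    have h2 := congrArg dsChar ht
    rw [← Category.assoc, dsChar_DSmap] at h2
    have h3 := congrArg (fun f : Multiplicative (K929.HopfChart.corN D) →* Γ((Over.mk s).left, ⊤) =>
      f (Multiplicative.ofAdd ⟨n, h1⟩)) h2
    have h4 : dsChar (1 : Over.mk s ⟶ Red.DS (Spec (CommRingCat.of k)) (K929.HopfChart.corN D))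
        (Multiplicative.ofAdd ⟨n, h1⟩) = 1 := by
      have h5 : dsChar (1 : Over.mk s ⟶ Red.DS (Spec (CommRingCat.of k)) (K929.HopfChart.corN D)) = 1 := by
        exact (map_one (dsEquiv (Over.mk s) (K929.HopfChart.corN D)).symm)
      rw [h5]
      rfl
    exact h3.trans h4
  let U : Multiplicative D.M →* Γ((Over.mk s).left, ⊤)ˣ := MonoidHom.toHomUnits χ
  have hU : ∀ m, ((U m : Γ((Over.mk s).left, ⊤)ˣ) : Γ((Over.mk s).left, ⊤)) = χ m := fun m => rfl
  -- the generator of the image of the coroot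
  obtain ⟨g, m₀, hg, hm₀, hdiv⟩ : ∃ (g : ℕ) (m₀ : D.M), 0 < g ∧ D.P.coroot a m₀ = g ∧
      ∀ m, ∃ l : ℤ, D.P.coroot a m = l * g := by
    by_cases h : ∃ m, ∃ l : ℤ, D.P.coroot a m = 2 * l + 1
    · obtain ⟨m, l, hl⟩ := h
      refine ⟨1, m - l • D.P.root a, one_pos, ?_, fun m => ⟨D.P.coroot a m, by simp⟩⟩
      rw [map_sub, map_smul, K929.HopfChart.coroot_two, hl, smul_eq_mul]
      push_cast
      ring
    · push Not at h
      refine ⟨2, D.P.root a, two_pos, by rw [K929.HopfChart.coroot_two]; rfl, fun m => ?_⟩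
      rcases Int.even_or_odd' (D.P.coroot a m) with ⟨l, hl | hl⟩
      · exact ⟨l, by rw [hl]; push_cast; ring⟩
      · exact absurd hl (h m l)
  obtain ⟨z, hz⟩ := exists_root (K := K) g hg (U (Multiplicative.ofAdd m₀))
  refine ⟨z, ?_⟩
  have e1 : t ≫ D.split.hom.hom.hom = gmPt (Over.mk s) z ≫ Red.DSmap _ (D.P.coroot a).toAddMonoidHom := by
    rw [← dsEquiv_dsChar (t ≫ D.split.hom.hom.hom), ← dsEquiv_dsChar (gmPt (Over.mk s) z ≫ _)]
    congr 1
    rw [dsChar_DSmap]
    refine MonoidHom.ext fun m => ?_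
    obtain ⟨m, rfl⟩ := Multiplicative.ofAdd.surjective m
    obtain ⟨l, hl⟩ := hdiv m
    have h1 : U (Multiplicative.ofAdd (m - l • m₀)) = 1 := by
      apply Units.ext
      rw [hU, Units.val_one]
      apply hχ
      rw [map_sub, map_smul, hm₀, hl, smul_eq_mul, sub_self]
    have h2 : (Multiplicative.ofAdd m) = Multiplicative.ofAdd (m - l • m₀) * (Multiplicative.ofAdd m₀) ^ l := by
      rw [← ofAdd_zsmul, ← ofAdd_add, sub_add_cancel]
    have h3 : U (Multiplicative.ofAdd m) = z ^ (D.P.coroot a m) := by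
      rw [h2, map_mul, map_zpow, h1, _root_.one_mul, ← hz, hl, ← zpow_natCast, ← zpow_mul, mul_comm]
    change χ (Multiplicative.ofAdd m) = dsChar (gmPt (Over.mk s) z) (Multiplicative.ofAdd (D.P.coroot a m))
    rw [← hU, h3, gmPt, dsChar_dsEquiv]
    rfl
  have e2 : D.split.hom.hom.hom ≫ D.split.inv.hom.hom = 𝟙 _ := congrArg (fun f => f.hom.hom) D.split.hom_inv_id
  have e3 : t = (t ≫ D.split.hom.hom.hom) ≫ D.split.inv.hom.hom := by
    rw [Category.assoc]
    exact ((congrArg (fun w => t ≫ w) e2).trans (Category.comp_id _)).symm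
  rw [e3, e1, avT, Category.assoc]

end roots

section surj

variable {k : Type u} [Field k] {Z : Over (Spec (CommRingCat.of k))} [GrpObj Z] {D : Red.SplitRed Z} {a : D.idx}
variable {DD : Over (Spec (CommRingCat.of k))} [GrpObj DD] (d : DD ⟶ Z) [IsMonHom d]

omit [IsMonHom d] in
/-- the derived group is the kernel of the projection to the coradical torus -/
theorem isKernel_of (hker : ∃ (C : Over (Spec (CommRingCat.of k))) (_ : GrpObj C) (f₀ : Z ⟶ C), IsMonHom f₀ ∧
      (∀ (X : Over (Spec (CommRingCat.of k))) (a b : X ⟶ C), a * b = b * a) ∧ AlgGrp.IsKernel d f₀)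
    (hkill : RedSub.KilledByCommutative d) {C' : Over (Spec (CommRingCat.of k))} [GrpObj C']
    (hC' : ∀ (X : Over (Spec (CommRingCat.of k))) (a b : X ⟶ C'), a * b = b * a) (f : Z ⟶ C') [IsMonHom f]
    (hK : ∀ (K : Over (Spec (CommRingCat.of k))) [GrpObj K] (κ : K ⟶ Z) [IsMonHom κ], AlgGrp.IsKernel κ f →
      RedSub.KilledByCommutative κ) : AlgGrp.IsKernel d f := by
  obtain ⟨C, _, f₀, hf₀, hC, hd⟩ := hker
  obtain ⟨K, _, κ, hκ, hKp⟩ := Groth.Agent.Grpsch.KerMul.exists_kernel f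
  have hKk := hK K κ hKp
  have hmono : Mono d := by
    refine ⟨fun {X} x y h => ?_⟩
    apply hd.hom_ext h
    exact toUnit_unique _ _
  have hw : d ≫ f = toUnit DD ≫ η[C'] := by
    rw [hkill C' f hC']
    rfl
  have hfac : ∀ {X : Over (Spec (CommRingCat.of k))} (x : X ⟶ Z), x ≫ f = toUnit X ≫ η[C'] →
      x ≫ f₀ = toUnit X ≫ η[C] := by
    intro X x hx
    have h1 : hKp.lift x (toUnit X) hx ≫ κ = x := hKp.lift_fst _ _ _
    rw [← h1, Category.assoc, hKk C f₀ hC, MonObj.comp_one]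
    rfl
  refine ⟨⟨hw⟩, ⟨PullbackCone.IsLimit.mk hw (fun c => hd.lift c.fst (toUnit _)
    (hfac c.fst (by rw [c.condition]; congr 1; exact toUnit_unique _ _))) (fun c => hd.lift_fst _ _ _)
    (fun c => toUnit_unique _ _) ?_⟩⟩
  intro c m h1 h2
  rw [← cancel_mono d, h1, hd.lift_fst]

lemma ds_comm {N : Type} [AddCommGroup N] (X : Over (Spec (CommRingCat.of k)))
    (x y : X ⟶ Red.DS (Spec (CommRingCat.of k)) N) : x * y = y * x := by
  apply (dsEquiv X N).symm.injective
  change dsChar _ = dsChar _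
  rw [dsChar_mul, dsChar_mul, mul_comm]

/-- **`SL₂` maps onto the derived group.** -/
theorem surjective (hone : K929.TwoBorel.OneRoot D.P)
    (hker : ∃ (C : Over (Spec (CommRingCat.of k))) (_ : GrpObj C) (f₀ : Z ⟶ C), IsMonHom f₀ ∧
      (∀ (X : Over (Spec (CommRingCat.of k))) (a b : X ⟶ C), a * b = b * a) ∧ AlgGrp.IsKernel d f₀)
    (hkill : RedSub.KilledByCommutative d) {f : SL k ⟶ Z} (hf : IsRootSL D a f) (f' : SL k ⟶ DD)
    (hf' : f' ≫ d = f) :
    IsMonHom f' ∧ Mono d ∧ IsClosedImmersion d.left ∧ Surjective f'.left ∧ Smooth DD.hom ∧ ConnectedSpace DD.left := by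
  have hZa : IsAffineHom Z.hom := D.reductive.1
  have hZs : Smooth Z.hom := D.reductive.2.1
  obtain ⟨fN, hfN, hfNT, hfNK⟩ := Groth.Agent.S5572.result D (K929.HopfChart.corN D) (fun m => Iff.rfl)
  have hdN : AlgGrp.IsKernel d fN := isKernel_of d hker hkill ds_comm fN
    (fun K _ κ _ hκ => (hfNK K κ hκ).2.2)
  obtain ⟨hsm, hconn, -⟩ := hfNK DD d hdN
  have hdfN : d ≫ fN = 1 := hkill _ fN ds_comm
  have hmono : Mono d := by
    refine ⟨fun {X} x y h => ?_⟩
    apply hdN.hom_ext h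
    exact toUnit_unique _ _
  have hcl : IsClosedImmersion d.left := by
    have hsep : IsAffineHom (Red.DS (Spec (CommRingCat.of k)) (K929.HopfChart.corN D)).hom :=
      inferInstanceAs (IsAffineHom (pullback.snd _ _))
    have hη : IsClosedImmersion (η[Red.DS (Spec (CommRingCat.of k)) (K929.HopfChart.corN D)] :
        𝟙_ (Over (Spec (CommRingCat.of k))) ⟶ _).left := NonComm.isClosedImmersion_one _
    have h1 := hdN.map (Over.forget _)
    exact MorphismProperty.of_isPullback h1.flip hη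
  have hfh := hf.hom
  have hf'h : IsMonHom f' := Groth.Agent.Sga3B.Pts.isMonHom_of_points _ fun X x y => by
    rw [← cancel_mono d, MonObj.mul_comp _ _ d, Category.assoc, Category.assoc, Category.assoc, hf', MonObj.mul_comp]
  have hc : ConnectedSpace DD.left := by
    have h1 := hconn (IsLocalRing.closedPoint k : Spec (CommRingCat.of k))
    have h2 : DD.hom ⁻¹' {(IsLocalRing.closedPoint k : Spec (CommRingCat.of k))} = Set.univ := by
      ext x
      simp only [Set.mem_preimage, Set.mem_univ, iff_true]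
      exact Subsingleton.elim (α := PrimeSpectrum k) _ _
    have h3 : _root_.IsConnected (Set.univ : Set DD.left) := h2 ▸ h1
    exact connectedSpace_iff_univ.2 h3
  have hirr : IrreducibleSpace DD.left := Groth.Agent.S0348.result k DD
  refine ⟨hf'h, hmono, hcl, ?_, hsm, hc⟩
  have hDa : IsAffineHom DD.hom := by
    rw [← Over.w d]
    infer_instance
  have hDa' : IsAffine DD.left := isAffine_of_isAffineHom DD.hom
  have hqc : QuasiCompact f'.left := inferInstance
  have hclosed : IsClosed (Set.range f'.left) := (Groth.Agent.S3016.result k (SL k) DD f').1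
  -- the open subset
  have hopen := K929.TwoBorel.isOpenImmersion_cell hone a
  let c := _root_.RedSub.cellMap D (fun _ : Fin 1 => D.P.reflectionPerm a a) (fun _ : Fin 1 => a)
  have hco : IsOpenImmersion c.left := hopen
  let V : Set DD.left := d.left ⁻¹' (Set.range c.left)
  have hV : IsOpen V := (IsOpenImmersion.isOpen_range c.left).preimage d.left.continuous
  have hVne : V.Nonempty := by
    refine ⟨(η[DD] : 𝟙_ (Over (Spec (CommRingCat.of k))) ⟶ DD).left (IsLocalRing.closedPoint k : Spec (CommRingCat.of k)),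
      ?_⟩
    have hu : ∀ c : D.idx, IsMonHom (D.u c) := fun c => (D.rootHom c).1
    have hi : IsMonHom D.i := D.maximalTorus.1
    have h1 := K929.TwoBorel.pt_cellMap D (1 : 𝟙_ (Over (Spec (CommRingCat.of k))) ⟶ Red.Ga _)
      (1 : 𝟙_ (Over (Spec (CommRingCat.of k))) ⟶ D.T) 1 (D.P.reflectionPerm a a) a
    rw [MonObj.one_comp, MonObj.one_comp, MonObj.one_comp, _root_.one_mul, _root_.one_mul] at h1
    have h2 : (η[DD] : 𝟙_ (Over (Spec (CommRingCat.of k))) ⟶ DD) ≫ d = 1 := by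
      rw [IsMonHom.one_hom, one_eq_one]
    have h3 := congrArg (fun w => w.left (IsLocalRing.closedPoint k : Spec (CommRingCat.of k))) (h1.trans h2.symm)
    simp only [Over.comp_left, Scheme.Hom.comp_apply] at h3
    exact ⟨_, h3⟩
  obtain ⟨κ, hκ, H⟩ := hf.hm
  have m2 : IsMonHom (D.u (D.P.reflectionPerm a a)) := (D.rootHom _).1
  have m3 : IsMonHom D.i := D.maximalTorus.1
  have m1 := H.mpp
  have E1 : ∀ {X : Over (Spec (CommRingCat.of k))} (y₁ : X ⟶ Red.Ga _),
      ((y₁ ≫ K214.SpecDual.scaleHom ((κ⁻¹ : kˣ) : k)) ≫ pm₀ k) ≫ f = y₁ ≫ D.u (D.P.reflectionPerm a a) := by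
    intro X y₁
    rw [Category.assoc, hκ, ← Category.assoc, scale_inv]
  have E2 : ∀ {X : Over (Spec (CommRingCat.of k))} (z : Γ(X.left, ⊤)ˣ),
      (gmPt X z ≫ i₀ k) ≫ f = (gmPt X z ≫ avT D a) ≫ D.i := by
    intro X z
    rw [Category.assoc, hf.hi, Category.assoc]
  have E3 : ∀ {X : Over (Spec (CommRingCat.of k))} (x₁ : X ⟶ Red.Ga _),
      (x₁ ≫ pp₀ k) ≫ f = x₁ ≫ D.u a := by
    intro X x₁
    rw [Category.assoc, hf.hp]
  have hVr : V ⊆ Set.range f'.left := by
    intro y hy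
    let K := AlgebraicClosure (DD.left.residueField y)
    let t : Spec (CommRingCat.of K) ⟶ DD.left := Red.geomPt y
    let x : Over.mk (t ≫ DD.hom) ⟶ DD := Over.homMk t rfl
    have hr : Set.range (x ≫ d).left ⊆ Set.range c.left := by
      rintro _ ⟨p, rfl⟩
      rw [Over.comp_left, Scheme.Hom.comp_apply]
      have h1 : x.left p = y := K212.Kpt.geomPt_apply p
      rw [h1]
      exact hy
    obtain ⟨w, hw⟩ : ∃ w, w ≫ c = x ≫ d := by
      refine ⟨Over.homMk (IsOpenImmersion.lift c.left (x ≫ d).left hr) ?_, ?_⟩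
      · rw [← Over.w c, ← Category.assoc, IsOpenImmersion.lift_fac, Over.w]
      · ext1
        exact IsOpenImmersion.lift_fac _ _ _
    have hw2 := hw
    change w ≫ _root_.RedSub.cellMap D (fun _ : Fin 1 => D.P.reflectionPerm a a) (fun _ : Fin 1 => a) = _ at hw2
    rw [K929.TwoBorel.cellMap_one, MonObj.comp_mul, MonObj.comp_mul] at hw2
    obtain ⟨y₁, t₁, x₁, hw3⟩ : ∃ (y₁ : Over.mk (t ≫ DD.hom) ⟶ Red.Ga _) (t₁ : Over.mk (t ≫ DD.hom) ⟶ D.T)
        (x₁ : Over.mk (t ≫ DD.hom) ⟶ Red.Ga _), (y₁ ≫ D.u (D.P.reflectionPerm a a)) * ((t₁ ≫ D.i) * (x₁ ≫ D.u a)) =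
        x ≫ d := by
      refine ⟨w ≫ fst _ _ ≫ Groth.Agent.RedSub.H633.PowPts.fstP (Red.Ga _) 0, w ≫ snd _ _ ≫ fst _ _,
        w ≫ snd _ _ ≫ snd _ _ ≫ Groth.Agent.RedSub.H633.PowPts.fstP (Red.Ga _) 0, ?_⟩
      simp only [Category.assoc]
      exact hw2
    have k1 : D.u a ≫ fN = 1 := K187.SL2Comm.pp_comp H ds_comm fN
    have k2 : D.u (D.P.reflectionPerm a a) ≫ fN = 1 := by
      have h1 := K187.SL2Comm.pm_comp H ds_comm fN
      have h2 := scale_inv (κ := κ) (𝟙 (Red.Ga (Spec (CommRingCat.of k))))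
      rw [← Category.id_comp (D.u (D.P.reflectionPerm a a)), ← h2]
      simp only [Category.assoc]
      rw [Category.assoc] at h1
      rw [h1, MonObj.comp_one, MonObj.comp_one]
    have k3 : t₁ ≫ D.split.hom.hom.hom ≫
        Red.DSmap (Spec (CommRingCat.of k)) (K929.HopfChart.corN D).subtype = 1 := by
      have h1 := congrArg (fun v => v ≫ fN) hw3
      simp only [MonObj.mul_comp, Category.assoc, k1, k2, hdfN, MonObj.comp_one, _root_.one_mul, _root_.mul_one] at h1
      rw [← hfNT]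
      exact h1
    obtain ⟨z, hz⟩ := exists_coroot_pt (a := a) hone (t ≫ DD.hom) t₁ k3
    let h : Over.mk (t ≫ DD.hom) ⟶ SL k := ((y₁ ≫ K214.SpecDual.scaleHom ((κ⁻¹ : kˣ) : k)) ≫ pm₀ k) *
      (gmPt _ z ≫ i₀ k) * (x₁ ≫ pp₀ k)
    have hh : h ≫ f = x ≫ d := by
      change (((y₁ ≫ K214.SpecDual.scaleHom ((κ⁻¹ : kˣ) : k)) ≫ pm₀ k) * (gmPt _ z ≫ i₀ k) * (x₁ ≫ pp₀ k)) ≫ f = _
      rw [MonObj.mul_comp, MonObj.mul_comp, E1, E2, E3, ← hw3, hz, _root_.mul_assoc]
    have hh2 : h ≫ f' = x := by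
      rw [← cancel_mono d]
      exact (Category.assoc h f' d).trans ((congrArg (fun v => h ≫ v) hf').trans hh)
    refine ⟨h.left (IsLocalRing.closedPoint K), ?_⟩
    have h3 := congrArg (fun v => v.left (IsLocalRing.closedPoint K)) hh2
    simp only [Over.comp_left, Scheme.Hom.comp_apply] at h3
    rw [h3]
    exact K212.Kpt.geomPt_apply _
  have hd : Dense V := hV.dense hVne
  refine ⟨?_⟩
  rw [← Set.range_eq_univ, Set.eq_univ_iff_forall]
  intro x
  exact (hclosed.closure_subset_iff.mpr hVr) (hd x)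

end surj

end K187.SL2Surj
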